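import Cfsg.Agent.S0145
import Cfsg.Agent.S0165
import Cfsg.Agent.S0840
import Cfsg.Agent.Blocks.Basic
import Cfsg.Agent.Blocks.CyclicUpper
import Cfsg.Agent.H735.J4C.Fin
import Cfsg.Agent.H112.HT.L3Row_m3
import Cfsg.Agent.GH.Cov.SylowThree_m3
import Cfsg.Agent.S2060
import Cfsg.Agent.FooteOdd.SporMEleven
import Cfsg.Agent.H315.Eight.RowJ3
import Cfsg.Agent.H521.PBJ
import Cfsg.Agent.H489.OutSpor
import Cfsg.Agent.H34.TI.Defs
import Cfsg.Agent.H23.FreeAct
import Cfsg.Agent.H608.TI.Final
import Cfsg.Agent.H592.Defect
import Cfsg.Agent.H608.J4.Fin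
import Cfsg.Agent.H394.PBTools_m3
import Cfsg.Agent.H657.BrauerFeit
import Cfsg.Agent.Blocks.ExistsModular
import Cfsg.Agent.H624.HT.RowOf
import Cfsg.Agent.H757.WkHS
import Cfsg.Agent.H877.EP.HS_m3
import Cfsg.Agent.H678.DG.HSDeg
import Cfsg.Agent.H904.HSIso
import Cfsg.Agent.H726.HT.Ab_m3
import Cfsg.Agent.H316.HT.Defs
import Cfsg.Agent.Schreier.ChevIso_m3
import Cfsg.Agent.UGT.C.BalONInv
import Cfsg.Agent.S1699
import Cfsg.Agent.H968.PQ.ON
import Cfsg.Agent.Th.Main1700
import Cfsg.Agent.Th.OrbitChain
import Cfsg.Agent.H766.PQ.A01_m3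
import Cfsg.Agent.H825.HT.Tools
import Cfsg.Agent.H55.OutGen
import Cfsg.Agent.H101.PQ.MHecke
import Cfsg.Agent.S2085
import Cfsg.Agent.MTwelveType.SylowModel
import Cfsg.Agent.H174.HT.Co3Deg
import Cfsg.Agent.H916.HT.McLCo2
import Cfsg.Agent.H171.Odd.SuzFive_m3
import Cfsg.Agent.H894.PQ.Ly
import Cfsg.Agent.H394.PBHN
import Cfsg.Agent.H187.Ore.HN15
import Cfsg.Agent.H651.HNF.Big
import Cfsg.Agent.H670.Hg.Cls
import Cfsg.Agent.H978.RatB.Th
import Cfsg.Agent.FastGrp
import Cfsg.Agent.Prune
set_option linter.all false

section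
prune_inst 0x7f00000000000000000000000000000000000000000000000000000000000000000000000000000000000000000000000000000000000000000000000000000000000000000000000000000000000000003fffffffffffffffffffffffffffbeffbdffffffff

-- part: H608/HT/Moment
section
set_option linter.all false
open scoped Cfsg.Agent.FastGrp

/-!
# S4933: the moment test for `|P| = p³` (helper608)

`z` in the centre of a Sylow `p`-subgroup of order `p³`, all `χ(z)` integers with `χ(1) ≡ χ(z)` modulo `p²`. If
every irreducible character has degree prime to `p` or divisible by `p³`, then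
`p³ ∣ N₂(z) - 3 |z^G| - |z^G|²`.
-/

set_option autoImplicit false

open Cfsg Subgroup
open scoped ComplexConjugate

namespace Cfsg.Agent.H608.HT

universe u

variable {G : Type u} [Group G] [Finite G]

/-- the number of factorizations of `z` -/
noncomputable def N2 (z : G) : ℕ := Nat.card {q : G × G // IsConj z q.1 ∧ IsConj z q.2 ∧ q.1 * q.2 = z}

/-- **The moment test.** -/
theorem moment (p : ℕ) [hp : Fact p.Prime] (h3 : p ^ 3 ∣ Nat.card G) (h4 : ¬ p ^ 4 ∣ Nat.card G) {z : G} (hz1 : z ≠ 1)
    (hz : p ∣ orderOf z) (a : IrrCharacter G → ℤ) (ha : ∀ χ : IrrCharacter G, (χ : G → ℂ) z = a χ)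
    (hcong : ∀ χ : IrrCharacter G, (p : ℤ) ^ 2 ∣ charDegree (χ : G → ℂ) - a χ)
    (hall : ∀ χ : IrrCharacter G, ¬ p ∣ charDegree (χ : G → ℂ) ∨ p ^ 3 ∣ charDegree (χ : G → ℂ)) :
    (p : ℤ) ^ 3 ∣ (N2 z : ℤ) - 3 * ((centralizer ({z} : Set G)).index : ℤ) - ((centralizer ({z} : Set G)).index : ℤ) ^ 2 := by
  classical
  have := Fintype.ofFinite G
  have := Characters.Core.finite_irr (G := G)
  have := Fintype.ofFinite (IrrCharacter G)
  have hpp : p.Prime := hp.out
  set k := (centralizer ({z} : Set G)).index with hk
  set c := Nat.card (centralizer ({z} : Set G)) with hc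
  set N := Nat.card G with hN
  have hck : c * k = N := card_mul_index _
  have hk0 : k ≠ 0 := index_ne_zero_of_finite
  have hN0 : N ≠ 0 := Nat.card_pos.ne'
  let n : IrrCharacter G → ℤ := fun χ => charDegree (χ : G → ℂ)
  have hn1 : ∀ χ : IrrCharacter G, (χ : G → ℂ) 1 = n χ := fun χ => by
    rw [Blocks.Basic.irr_one_eq_charDegree χ.2]; simp [n]
  have hn0 : ∀ χ : IrrCharacter G, n χ ≠ 0 := fun χ => by
    have := Blocks.Basic.charDegree_pos χ.2
    simp only [n]
    exact_mod_cast this.ne'
  have hdvd : ∀ χ : IrrCharacter G, ∃ m : ℤ, (N : ℤ) = n χ * m := fun χ => by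
    obtain ⟨m, hm⟩ := Blocks.CyclicUpper.charDegree_dvd χ.2
    exact ⟨m, by simp only [n]; rw [hN, hm]; push_cast; rfl⟩
  choose m hm using hdvd
  -- the sums
  have s1 : ∑ χ, n χ * n χ = N := by
    have h := (H34.TI.gram (1 : G) 1 (a := n) (b := n) (fun χ => (hn1 χ).symm) (fun χ => (hn1 χ).symm)).1 (IsConj.refl _)
    rw [h]
    have h5 : centralizer ({1} : Set G) = ⊤ := by
      ext g; simp [mem_centralizer_singleton_iff]
    rw [h5, Nat.card_congr (Subgroup.topEquiv (G := G)).toEquiv]
  have s2 : ∑ χ, a χ * n χ = 0 :=
    (H34.TI.gram z 1 (a := a) (b := n) (fun χ => (ha χ).symm) (fun χ => (hn1 χ).symm)).2 fun h => hz1 (by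
      obtain ⟨g, hg⟩ := isConj_iff.1 h
      have : z = g⁻¹ * 1 * g := by rw [← hg]; group
      rw [this]; group)
  have s3 : ∑ χ, a χ * a χ = c :=
    (H34.TI.gram z z (a := a) (b := a) (fun χ => (ha χ).symm) (fun χ => (ha χ).symm)).1 (IsConj.refl _)
  have s4 : (k : ℤ) ^ 2 * ∑ χ, a χ ^ 3 * m χ = (N : ℤ) ^ 2 * N2 z := by
    have h := S0840.result z z z
    rw [H34.TI.card_isConj, finsum_eq_sum_of_fintype] at h
    have h5 : ∑ χ : IrrCharacter G, (χ : G → ℂ) z * (χ : G → ℂ) z * conj ((χ : G → ℂ) z) / (χ : G → ℂ) 1 =
        (∑ χ, a χ ^ 3 * m χ : ℤ) / (N : ℂ) := by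
      push_cast
      rw [Finset.sum_div]
      refine Finset.sum_congr rfl fun χ _ => ?_
      have h6 : ((N : ℤ) : ℂ) = (n χ : ℂ) * m χ := by rw [hm χ]; push_cast; rfl
      have h7 : (N : ℂ) = (n χ : ℂ) * m χ := by rw [← h6]; simp
      have h8 : (n χ : ℂ) ≠ 0 := by exact_mod_cast hn0 χ
      have h9 : (m χ : ℂ) ≠ 0 := by
        intro h10
        rw [h10, mul_zero] at h7
        exact hN0 (by exact_mod_cast h7)
      rw [ha, hn1, map_intCast, h7]
      field_simp
    rw [h5] at h
    have hNC : (N : ℂ) ≠ 0 := by exact_mod_cast hN0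
    have h6 : (N : ℂ) ^ 2 * (N2 z : ℂ) = (k : ℂ) ^ 2 * (∑ χ, a χ ^ 3 * m χ : ℤ) := by
      rw [N2, h, ← hk, ← hN]
      field_simp
    have h7 : (((N : ℤ) ^ 2 * N2 z : ℤ) : ℂ) = (((k : ℤ) ^ 2 * ∑ χ, a χ ^ 3 * m χ : ℤ) : ℂ) := by
      push_cast
      push_cast at h6
      exact h6
    exact_mod_cast h7.symm
  -- the total
  have s5 : (k : ℤ) ^ 2 * ∑ χ, m χ * (a χ - n χ) ^ 3 = (N : ℤ) ^ 2 * (N2 z - 3 * k - k ^ 2) := by
    have h5 : ∀ χ, m χ * (a χ - n χ) ^ 3 = a χ ^ 3 * m χ - 3 * N * (a χ * a χ) + 3 * N * (a χ * n χ) - N * (n χ * n χ) := by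
      intro χ
      rw [hm χ]
      ring
    rw [Finset.sum_congr rfl fun χ _ => h5 χ, Finset.sum_sub_distrib, Finset.sum_add_distrib, Finset.sum_sub_distrib,
      ← Finset.mul_sum, ← Finset.mul_sum, ← Finset.mul_sum, s1, s2, s3]
    have h6 : (N : ℤ) = c * k := by exact_mod_cast hck.symm
    calc (k : ℤ) ^ 2 * (∑ χ, a χ ^ 3 * m χ - 3 * N * c + 3 * N * 0 - N * N) =
        (k : ℤ) ^ 2 * ∑ χ, a χ ^ 3 * m χ - 3 * N * k * (c * k) - N * N * k ^ 2 := by ring
      _ = (N : ℤ) ^ 2 * N2 z - 3 * N * k * N - N * N * k ^ 2 := by rw [s4, ← h6]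
      _ = _ := by ring
  obtain ⟨N', hN'⟩ := h3
  have hpN' : ¬ p ∣ N' := by
    rintro ⟨r, rfl⟩
    exact h4 ⟨r, by rw [hN']; ring⟩
  have hpi : Prime (p : ℤ) := Nat.prime_iff_prime_int.1 hpp
  -- the valuations
  have s6 : ∀ χ, (p : ℤ) ^ 9 ∣ m χ * (a χ - n χ) ^ 3 := by
    intro χ
    rcases hall χ with h | h
    · have h5 : (p : ℤ) ^ 3 ∣ m χ := by
        have h6 : (p : ℤ) ^ 3 ∣ n χ * m χ := by
          rw [← hm χ, hN']
          push_cast
          exact dvd_mul_right _ _
        have h7 : IsCoprime ((p : ℤ) ^ 3) (n χ) := by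
          apply IsCoprime.pow_left
          rw [Int.isCoprime_iff_gcd_eq_one]
          simp only [n]
          rw [Int.gcd_natCast_natCast]
          exact (Nat.Prime.coprime_iff_not_dvd hpp).2 h
        exact h7.dvd_of_dvd_mul_left h6
      have h6 : (p : ℤ) ^ 6 ∣ (a χ - n χ) ^ 3 := by
        have h7 : (p : ℤ) ^ 2 ∣ a χ - n χ := by
          rw [← dvd_neg, neg_sub]
          exact hcong χ
        have h8 := pow_dvd_pow_of_dvd h7 3
        rwa [← pow_mul] at h8
      have h7 := mul_dvd_mul h5 h6
      rwa [← pow_add] at h7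
    · have h5 : a χ = 0 := by
        obtain ⟨d, ρ, hρ, hχ⟩ := χ.2
        have hd' : p ^ 3 ∣ Module.finrank ℂ (Fin d → ℂ) := by
          have h1 : ((χ : G → ℂ) 1) = (charDegree (χ : G → ℂ) : ℂ) := Blocks.Basic.irr_one_eq_charDegree χ.2
          rw [← hχ, Representation.char_one] at h1
          have h2 : Module.finrank ℂ (Fin d → ℂ) = charDegree (χ : G → ℂ) := by
            rw [← hχ]
            exact_mod_cast h1
          rw [h2]
          exact h
        have h7 := S0165.result ρ p 3 hpp ⟨N', hN'⟩ h4 hd' z hz
        rw [hχ, ha] at h7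
        exact_mod_cast h7
      rw [h5]
      have h6 : m χ * (0 - n χ) ^ 3 = -((N : ℤ) * (n χ) ^ 2) := by rw [hm χ]; ring
      rw [h6, dvd_neg]
      have h7 : (p : ℤ) ^ 3 ∣ N := by rw [hN']; push_cast; exact dvd_mul_right _ _
      have h8 : (p : ℤ) ^ 6 ∣ (n χ) ^ 2 := by
        have h9 : (p : ℤ) ^ 3 ∣ n χ := by simp only [n]; exact_mod_cast h
        have h10 := pow_dvd_pow_of_dvd h9 2
        rwa [← pow_mul] at h10
      have h9 := mul_dvd_mul h7 h8
      rwa [← pow_add] at h9
  have s7 : (p : ℤ) ^ 9 ∣ (N : ℤ) ^ 2 * (N2 z - 3 * k - k ^ 2) := by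
    rw [← s5]
    exact (Finset.dvd_sum fun χ _ => s6 χ).mul_left _
  have s8 : (N : ℤ) ^ 2 * (N2 z - 3 * k - k ^ 2) = (p : ℤ) ^ 6 * ((N' : ℤ) ^ 2 * (N2 z - 3 * k - k ^ 2)) := by
    rw [hN']
    push_cast
    ring
  rw [s8, show (9 : ℕ) = 6 + 3 from rfl, pow_add] at s7
  have s9 : (p : ℤ) ^ 3 ∣ (N' : ℤ) ^ 2 * (N2 z - 3 * k - k ^ 2) :=
    Int.dvd_of_mul_dvd_mul_left (pow_ne_zero _ hpi.ne_zero) s7
  have h7 : IsCoprime ((p : ℤ) ^ 3) ((N' : ℤ) ^ 2) := by
    apply IsCoprime.pow
    rw [Int.isCoprime_iff_gcd_eq_one, Int.gcd_natCast_natCast]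
    exact (Nat.Prime.coprime_iff_not_dvd hpp).2 hpN'
  exact h7.dvd_of_dvd_mul_left s9

end Cfsg.Agent.H608.HT

private theorem dce_56600e0ec442 : _root_.True := by
  try have : _root_.True := by simp only [_root_.Cfsg.Agent.H608.HT.N2.eq_1]
  exact _root_.True.intro
end

-- part: H920/HT/M11_mg
section
set_option linter.all false
open scoped Cfsg.Agent.FastGrp

-- part: H920/HT/M11
section
/-!
# S4933, box s.M11.2 (helper920): `M₁₁`, `p = 2`

The Sylow 2-subgroups are quasi-dihedral of order 16 and there are no outer automorphisms: `H112.HT.row_of_qd`.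
-/

set_option autoImplicit false

open Subgroup

namespace Cfsg.Agent.H920.HT

open Cfsg Cfsg.Agent.H316.HT

theorem two_dvd_m11 : 2 ∣ Nat.card Spor.M11 := by
  rw [Cfsg.Agent.FooteOdd.SporMEleven.card]
  norm_num

/-- **s.M11.2** -/
theorem m11_2 (K : Type) [Group K] [Finite K] [IsSimpleGroup K] (_ : ¬ IsMulCommutative K) (hK : Spor.IsoM11 K) :
    Row 2 K := by
  obtain ⟨e0⟩ := hK
  have h1 : Odd (Nat.card (1 : Out K →* Multiplicative (ZMod 1)).ker) := by
    have h2 : Nat.card (Out K) = 1 := by
      rw [← Cfsg.Agent.S2060.result]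
      exact Cfsg.Agent.H55.OutGen.index_range_conj_congr e0
    have h3 : Nat.card (1 : Out K →* Multiplicative (ZMod 1)).ker ∣ 1 := by
      rw [← h2]
      exact card_subgroup_dvd_card _
    rw [Nat.dvd_one.1 h3]
    exact odd_one
  exact Cfsg.Agent.H112.HT.row_of_qd 1 h1
    (fun N _ _ ⟨e⟩ T => Cfsg.Agent.GH.Cov.SylowThree.mEleven ⟨e.trans e0⟩ (by
      rw [Nat.card_congr (e.trans e0).toEquiv]
      exact two_dvd_m11) T)

end Cfsg.Agent.H920.HT
end

-- part: H118/HT/J3
section
/-!
# S4933, the group `J₃`, `p = 3` (helper118; generated certificate)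

By linear programming `J₃` has a degree divisible by 3 and not by 9; it lies in the principal 3-block.
-/

set_option autoImplicit false
set_option maxRecDepth 100000

open Cfsg Subgroup Cfsg.Agent.Characters.Core Cfsg.Agent.H417.JThreeLP

namespace Cfsg.Agent.H118.HT.J3

universe v

section lp

variable {ι : Type*} [Fintype ι] {V : ι → Fin 8 → ℤ}

/-- the rows of degree prime to 3 or divisible by 9 -/
def evs : List (List ℤ) := vecs.filter fun l => decide (l.getD 0 0 % 3 ≠ 0 ∨ l.getD 0 0 % 9 = 0)

theorem leaf0 (h : Hyp V) (hW : ∀ χ, ∃ l ∈ evs, V χ = fn l) : False := by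
  refine leaf h evs hW
    [-3645, -903675787, -4307705225, 226048320, -8878025410, 190589760, 6758472296, 0, -281399132160, -1463503094559,
     -1720074662928, -514198667430, 1652336402832, 1408409501544, -281399132160, -281399132160, -8591406731280,
     10602888723720, 8912854337040, -3462061724208, -1688394792960, -13931274240, -17496200155680, 651554979840,
     14096622317184, -281399132160, 22664312617680, 16898368834080, -25820282697120, -3095390453760, 676580843520,
     -14178810531456, -281399132160, 6140184559488, 2813991321600, 38578913280, -281399132160, 21558804480,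
     127993575582720, -85279703040, 17258987520]
    [] ?_ (by decide +kernel) (by decide +kernel)
  intro e he
  simp only [List.not_mem_nil] at he

/-- a degree divisible by 3 and not by 9 -/
theorem exists_three (h : Hyp V) : ∃ χ, V χ 0 % 3 = 0 ∧ V χ 0 % 9 ≠ 0 := by
  by_contra hno
  push Not at hno
  refine leaf0 h fun χ => ?_
  obtain ⟨l, hl, hv⟩ := h.mem χ
  refine ⟨l, ?_, hv⟩
  have h1 := hno χ
  rw [hv] at h1
  have h2 : fn l 0 = l.getD 0 0 := rfl
  rw [h2] at h1
  rw [evs, List.mem_filter]
  refine ⟨hl, ?_⟩
  rw [decide_eq_true_eq]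
  rcases eq_or_ne (l.getD 0 0 % 3) 0 with h3 | h3
  · exact Or.inr (h1 h3)
  · exact Or.inl h3

end lp

variable {S : Type v} [Group S]

theorem exists_deg (h : Spor.IsoJ3 S) : ∃ χ : IrrCharacter S, 3 ∣ charDegree (χ : S → ℂ) ∧ ¬ 9 ∣ charDegree (χ : S → ℂ) := by
  have hcK := H724.IMJThree.card_j3 h
  have hfin : Finite S := Nat.finite_of_card_ne_zero (by rw [hcK]; norm_num)
  have := Cfsg.Agent.Characters.Core.finite_irr (G := S)
  let _ := Fintype.ofFinite (IrrCharacter S)
  obtain ⟨V, hdg, hV⟩ := Cfsg.Agent.H417.JThreeDeg.hyp h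
  obtain ⟨χ, h1, h2⟩ := exists_three hV
  refine ⟨χ, ?_, ?_⟩
  · rw [hdg] at h1
    have h3 : (3 : ℤ) ∣ (charDegree (χ : S → ℂ) : ℤ) := Int.dvd_of_emod_eq_zero h1
    exact_mod_cast h3
  · intro h3
    apply h2
    rw [hdg]
    have h4 : (9 : ℤ) ∣ (charDegree (χ : S → ℂ) : ℤ) := by exact_mod_cast h3
    exact Int.emod_eq_zero_of_dvd h4

theorem pos_three (h : Spor.IsoJ3 S) : H468.HT.Pos 3 S := by
  have hcK := H724.IMJThree.card_j3 h
  have hfin : Finite S := Nat.finite_of_card_ne_zero (by rw [hcK]; norm_num)
  obtain ⟨χ, h1, h2⟩ := exists_deg h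
  exact H468.HT.Pos.of_nb (by norm_num) ((H521.PBJ.nb_three h).mono (by norm_num)) ⟨χ, rfl⟩ h1 (by simpa using h2)

/-- **(J₃, 3)** -/
theorem row_three (h : Spor.IsoJ3 S) : H316.HT.Row 3 S := by
  have h3 : Fact (Nat.Prime 3) := ⟨by norm_num⟩
  have hcK := H724.IMJThree.card_j3 h
  have hfin : Finite S := Nat.finite_of_card_ne_zero (by rw [hcK]; norm_num)
  refine H468.HT.row_of_good (H468.HT.not_dvd_of_le_two (by norm_num)
    (H489.card_out_sporadic (by simp only [IsSporadicGroup, h, true_or, or_true]))) (pos_three h).good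

end Cfsg.Agent.H118.HT.J3
end

-- part: H608/HT/J4a
section
/-!
# S4933: `J₄`, `p = 11` (helper608): the local part

* `mem_zpowers_of_comm` : a conjugate of `z` which commutes with some `u ≠ 1` in `P` lies in `⟨z⟩`;
* `n2_mod` : `N₂(z) ≡ 9` modulo 1331; `isTI` : the Sylow 11-subgroups are TI.
-/

set_option autoImplicit false
set_option linter.unusedSectionVars false

open Cfsg Subgroup
open scoped Pointwise

namespace Cfsg.Agent.H608.HT

open Cfsg.Agent.H265.J4LP

universe u

variable {G : Type u} [Group G] [Finite G] {D : Data11 G}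

theorem z_not_x (E : Eleven D) : ¬ IsConj D.z D.x := fun hc => by
  have := E.rep_inj 0 1 hc
  exact absurd this (by decide)

theorem pow_of_conj (E : Eleven D) {a : G} (ha : IsConj D.z a) : a ^ 11 = 1 := by
  have h : orderOf a = 11 := by rw [← H34.TI.orderOf_conj ha, E.ord_z]
  rw [← h, pow_orderOf_eq_one]

theorem mem_of_comm_z (E : Eleven D) {a : G} (ha : IsConj D.z a) (h : a * D.z = D.z * a) : a ∈ zpowers D.z := by
  by_contra hcon
  have h1 : a ∈ D.P := H966.TI.mem_P_of_cent E h (by
    rw [show (1331 : ℕ) = 11 * 121 by norm_num, pow_mul, pow_of_conj E ha, one_pow])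
  exact z_not_x E (ha.trans (E.conj_x a h1 hcon))

/-- the centralizer of an element of `P` outside `⟨z⟩` -/
theorem comm_of_cent (E : Eleven D) {u : G} (hu : u ∈ D.P) (hu1 : u ∉ zpowers D.z) {a b : G} (ha : a * u = u * a)
    (hb : b * u = u * b) (ha1 : a ^ 11 = 1) (hb1 : b ^ 11 = 1) : a * b = b * a := by
  have : Fact (Nat.Prime 11) := ⟨by norm_num⟩
  set C := centralizer ({u} : Set G) with hC
  have hcard : Nat.card C = 242 := by
    have h1 : Nat.card (centralizer ({D.x} : Set G)) = 242 := E.card_cent 1
    rw [← h1]
    obtain ⟨c, hc⟩ := isConj_iff.1 (E.conj_x u hu hu1)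
    refine Nat.card_congr
      { toFun := fun y => ⟨c * y * c⁻¹, ?_⟩
        invFun := fun y => ⟨c⁻¹ * y * c, ?_⟩
        left_inv := fun y => Subtype.ext (by simp [mul_assoc])
        right_inv := fun y => Subtype.ext (by simp only [mul_assoc, _root_.mul_inv_cancel_left, _root_.mul_inv_cancel, _root_.mul_one]) }
    · rw [mem_centralizer_singleton_iff, ← hc]
      have := mem_centralizer_singleton_iff.1 y.2
      calc c * y * c⁻¹ * (c * u * c⁻¹) = c * (y * u) * c⁻¹ := by group
        _ = c * (u * y) * c⁻¹ := by rw [this]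
        _ = _ := by group
    · rw [mem_centralizer_singleton_iff]
      have := mem_centralizer_singleton_iff.1 y.2
      calc c⁻¹ * y * c * u = c⁻¹ * (y * (c * u * c⁻¹)) * c := by group
        _ = c⁻¹ * (y * D.x) * c := by rw [hc]
        _ = c⁻¹ * (D.x * y) * c := by rw [this]
        _ = c⁻¹ * ((c * u * c⁻¹) * y) * c := by rw [hc]
        _ = _ := by group
  obtain ⟨Q⟩ : Nonempty (Sylow 11 C) := inferInstance
  have hQ : Nat.card (Q : Subgroup C) = 11 ^ 2 := by
    rw [Q.card_eq_multiplicity, hcard]
    congr 1
    have h2 : (242 : ℕ) = 11 ^ 2 * 2 := by norm_num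
    rw [h2, Nat.factorization_mul (by norm_num) (by norm_num), Nat.factorization_pow, Finsupp.add_apply,
      Finsupp.smul_apply, (by norm_num : Nat.Prime 11).factorization_self,
      Nat.factorization_eq_zero_of_not_dvd (by norm_num)]
    rfl
  have hidx : (Q : Subgroup C).index = 2 := by
    have h3 := card_mul_index (Q : Subgroup C)
    rw [hQ, hcard] at h3
    omega
  have hn : (Q : Subgroup C).Normal := Subgroup.normal_of_index_eq_two hidx
  have hmem : ∀ y : C, y ^ 11 = 1 → y ∈ (Q : Subgroup C) := by
    intro y hy
    have h4 : (QuotientGroup.mk' (Q : Subgroup C)) y ^ 11 = 1 := by rw [← map_pow, hy, map_one]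
    have h5 : (QuotientGroup.mk' (Q : Subgroup C)) y ^ 2 = 1 := by
      have h6 : Nat.card (C ⧸ (Q : Subgroup C)) = 2 := hidx
      rw [← h6]
      exact pow_card_eq_one'
    have h6 : (QuotientGroup.mk' (Q : Subgroup C)) y = 1 := by
      have h7 : (QuotientGroup.mk' (Q : Subgroup C)) y ^ 11 = ((QuotientGroup.mk' (Q : Subgroup C)) y ^ 2) ^ 5 *
          (QuotientGroup.mk' (Q : Subgroup C)) y := by
        rw [← pow_mul, ← pow_succ]
      rw [h4, h5, one_pow, one_mul] at h7
      exact h7.symm
    exact (QuotientGroup.eq_one_iff y).1 h6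
  have hab := (IsPGroup.isMulCommutative_of_card_eq_prime_sq hQ).is_comm.comm
    ⟨⟨a, mem_centralizer_singleton_iff.2 ha⟩, hmem _ (Subtype.ext ha1)⟩
    ⟨⟨b, mem_centralizer_singleton_iff.2 hb⟩, hmem _ (Subtype.ext hb1)⟩
  exact congrArg (fun q : (Q : Subgroup C) => ((q : C) : G)) hab

/-- **The key.** -/
theorem mem_zpowers_of_comm (E : Eleven D) {a u : G} (ha : IsConj D.z a) (hu : u ∈ D.P) (hu1 : u ≠ 1)
    (hau : a * u = u * a) : a ∈ zpowers D.z := by
  apply mem_of_comm_z E ha
  by_cases h : u ∈ zpowers D.z
  · -- `z` is a power of `u`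
    have hz : D.z ∈ zpowers u := by
      have h1 : orderOf u = 11 := by
        rw [H34.TI.orderOf_conj (E.conj_z u h hu1), E.ord_z]
      have h2 : zpowers u = zpowers D.z := by
        refine Subgroup.eq_of_le_of_card_ge (zpowers_le.2 h) ?_
        rw [Nat.card_zpowers, Nat.card_zpowers, h1, E.ord_z]
      rw [h2]
      exact mem_zpowers _
    obtain ⟨k, hk⟩ := mem_zpowers_iff.1 hz
    rw [← hk]
    exact ((show Commute a u from hau).zpow_right k).eq
  · refine comm_of_cent E hu h hau (E.z_comm u hu) (pow_of_conj E ha) ?_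
    rw [← E.ord_z, pow_orderOf_eq_one]

/-- the set of the factorizations of `z` in the class of `z` -/
theorem n2_eq (z : G) : N2 z = Nat.card {a : G // IsConj z a ∧ IsConj z (a⁻¹ * z)} := by
  refine Nat.card_congr
    { toFun := fun q => ⟨q.1.1, q.2.1, ?_⟩
      invFun := fun a => ⟨(a.1, a.1⁻¹ * z), a.2.1, a.2.2, mul_inv_cancel_left _ _⟩
      left_inv := fun q => ?_
      right_inv := fun a => rfl }
  · have h := q.2.2.2
    have h2 : q.1.1⁻¹ * z = q.1.2 := inv_mul_eq_iff_eq_mul.2 h.symm
    rw [h2]
    exact q.2.2.1
  · apply Subtype.ext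
    have h := q.2.2.2
    have h2 : q.1.1⁻¹ * z = q.1.2 := inv_mul_eq_iff_eq_mul.2 h.symm
    exact Prod.ext rfl h2

theorem isConj_conj {z a g : G} (h : IsConj z a) : IsConj z (g * a * g⁻¹) :=
  h.trans (isConj_iff.2 ⟨g, rfl⟩)

/-- **`N₂(z)` modulo 1331** -/
theorem n2_mod (E : Eleven D) : ∃ t : ℕ, N2 D.z = 9 + 1331 * t := by
  classical
  have := Fintype.ofFinite G
  rw [n2_eq]
  let S : Type u := {a : G // (IsConj D.z a ∧ IsConj D.z (a⁻¹ * D.z)) ∧ a ∉ zpowers D.z}
  -- the free action
  have hact : ∀ (d : D.P) (a : G), ((IsConj D.z a ∧ IsConj D.z (a⁻¹ * D.z)) ∧ a ∉ zpowers D.z) →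
      ((IsConj D.z (d * a * (d : G)⁻¹) ∧ IsConj D.z ((d * a * (d : G)⁻¹)⁻¹ * D.z)) ∧ d * a * (d : G)⁻¹ ∉ zpowers D.z) := by
    rintro d a ⟨⟨h1, h2⟩, h3⟩
    have hdz : D.z * d = d * D.z := E.z_comm d d.2
    refine ⟨⟨isConj_conj h1, ?_⟩, ?_⟩
    · have h4 : (d * a * (d : G)⁻¹)⁻¹ * D.z = d * (a⁻¹ * D.z) * (d : G)⁻¹ := by
        calc (d * a * (d : G)⁻¹)⁻¹ * D.z = d * a⁻¹ * (d : G)⁻¹ * (D.z * d) * (d : G)⁻¹ := by group
          _ = d * a⁻¹ * (d : G)⁻¹ * (d * D.z) * (d : G)⁻¹ := by rw [hdz]
          _ = _ := by group
      rw [h4]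
      exact isConj_conj h2
    · intro h4
      apply h3
      obtain ⟨k, hk⟩ := mem_zpowers_iff.1 h4
      refine mem_zpowers_iff.2 ⟨k, ?_⟩
      have h5 : Commute (D.z ^ k) (d : G) := (show Commute D.z (d : G) from hdz).zpow_left k
      have h6 : a = (d : G)⁻¹ * (D.z ^ k) * d := by rw [hk]; group
      rw [h6, mul_assoc, h5.eq, inv_mul_cancel_left]
  let act : MulAction D.P S :=
    { smul := fun d s => ⟨d * s.1 * (d : G)⁻¹, hact d s.1 s.2⟩
      one_smul := fun s => Subtype.ext (by
        show ((1 : D.P) : G) * s.1 * ((1 : D.P) : G)⁻¹ = s.1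
        simp only [_root_.OneMemClass.coe_one, _root_.one_mul, _root_.inv_one, _root_.mul_one])
      mul_smul := fun c d s => Subtype.ext (by
        show ((c * d : D.P) : G) * s.1 * ((c * d : D.P) : G)⁻¹ = c * (d * s.1 * (d : G)⁻¹) * (c : G)⁻¹
        rw [coe_mul, mul_inv_rev]
        simp only [mul_assoc]) }
  have hdvd : Nat.card D.P ∣ Nat.card S := by
    refine H23.FreeAct.card_dvd_of_free fun d s hds => ?_
    by_contra hd
    have h1 : (d : G) * s.1 * (d : G)⁻¹ = s.1 := congrArg Subtype.val hds
    have h2 : s.1 * d = d * s.1 := by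
      rw [mul_inv_eq_iff_eq_mul] at h1
      exact h1.symm
    exact s.2.2 (mem_zpowers_of_comm E s.2.1.1 d.2 (fun h => hd (Subtype.ext h)) h2)
  rw [E.card_P] at hdvd
  obtain ⟨t, ht⟩ := hdvd
  refine ⟨t, ?_⟩
  -- the splitting
  have h1 : Nat.card {a : G // IsConj D.z a ∧ IsConj D.z (a⁻¹ * D.z)} =
      Nat.card {a : G // (IsConj D.z a ∧ IsConj D.z (a⁻¹ * D.z)) ∧ a ∈ zpowers D.z} + Nat.card S := by
    rw [Nat.card_eq_fintype_card, Nat.card_eq_fintype_card, Nat.card_eq_fintype_card, Fintype.card_subtype,
      Fintype.card_subtype, Fintype.card_subtype,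
      ← Finset.filter_filter (fun a : G => IsConj D.z a ∧ IsConj D.z (a⁻¹ * D.z)) (fun a => a ∈ zpowers D.z),
      ← Finset.filter_filter (fun a : G => IsConj D.z a ∧ IsConj D.z (a⁻¹ * D.z)) (fun a => a ∉ zpowers D.z)]
    exact (Finset.card_filter_add_card_filter_not _).symm
  have h2 : Nat.card {a : G // (IsConj D.z a ∧ IsConj D.z (a⁻¹ * D.z)) ∧ a ∈ zpowers D.z} = 9 := by
    have h3 : Nat.card {a : G // (IsConj D.z a ∧ IsConj D.z (a⁻¹ * D.z)) ∧ a ∈ zpowers D.z} =
        Nat.card {a : zpowers D.z // a ≠ 1 ∧ a ≠ ⟨D.z, mem_zpowers _⟩} := by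
      refine Nat.card_congr
        { toFun := fun a => ⟨⟨a.1, a.2.2⟩, ?_, ?_⟩
          invFun := fun a => ⟨a.1, ⟨?_, ?_⟩, a.1.2⟩
          left_inv := fun a => rfl
          right_inv := fun a => rfl }
      · intro h
        have h4 : a.1 = 1 := congrArg Subtype.val h
        have h5 := a.2.1.1
        rw [h4] at h5
        have h6 := H34.TI.orderOf_conj h5
        rw [E.ord_z, orderOf_one] at h6
        omega
      · intro h
        have h4 : a.1 = D.z := congrArg Subtype.val h
        have h5 := a.2.1.2
        rw [h4, inv_mul_cancel] at h5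
        have h6 := H34.TI.orderOf_conj h5
        rw [E.ord_z, orderOf_one] at h6
        omega
      · exact (E.conj_z a.1 a.1.2 fun h => a.2.1 (Subtype.ext h)).symm
      · refine (E.conj_z _ (mul_mem (inv_mem a.1.2) (mem_zpowers _)) fun h => a.2.2 ?_).symm
        apply Subtype.ext
        rw [inv_mul_eq_one] at h
        exact h
    rw [h3, Nat.card_eq_fintype_card, Fintype.card_subtype]
    have h4 : (Finset.univ.filter fun a : zpowers D.z => a ≠ 1 ∧ a ≠ ⟨D.z, mem_zpowers _⟩) =
        (Finset.univ.erase 1).erase ⟨D.z, mem_zpowers _⟩ := by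
      ext a
      simp only [Finset.mem_filter, Finset.mem_univ, true_and, Finset.mem_erase, and_true]
      exact and_comm
    rw [h4, Finset.card_erase_of_mem, Finset.card_erase_of_mem (Finset.mem_univ _), Finset.card_univ,
      ← Nat.card_eq_fintype_card, Nat.card_zpowers, E.ord_z]
    rw [Finset.mem_erase]
    refine ⟨fun h => ?_, Finset.mem_univ _⟩
    have h5 : D.z = 1 := congrArg Subtype.val h
    have h6 := E.ord_z
    rw [h5, orderOf_one] at h6
    omega
  rw [h1, h2, ht]

/-- `D.P` is a Sylow subgroup -/
theorem exists_sylow [Fact (Nat.Prime 11)] (E : Eleven D) (hN : Nat.card G = 86775571046077562880) :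
    ∃ P : Sylow 11 G, (P : Subgroup G) = D.P := by
  have h1 : IsPGroup 11 D.P := IsPGroup.of_card (n := 3) (by rw [E.card_P]; norm_num)
  obtain ⟨P', hP'⟩ := h1.exists_le_sylow
  have h2 : Nat.card (P' : Subgroup G) = 1331 := by
    rw [P'.card_eq_multiplicity, hN, H34.TI.fact_eleven (by norm_num) (by norm_num) (by norm_num)]
    norm_num
  exact ⟨P', (Subgroup.eq_of_le_of_card_ge hP' (by rw [h2, E.card_P])).symm⟩

/-- **The Sylow 11-subgroup is TI** -/
theorem isTI (E : Eleven D) : H34.TI.IsTI D.P := by
  intro g hg
  rw [eq_bot_iff]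
  rintro u ⟨hu, hu'⟩
  rw [mem_bot]
  by_contra hu1
  have h1 : g⁻¹ * u * g ∈ D.P := by
    have h2 := Subgroup.mem_pointwise_smul_iff_inv_smul_mem.1 hu'
    rw [← map_inv, MulAut.smul_def, MulAut.conj_apply, inv_inv] at h2
    exact h2
  have h2 : (g * D.z * g⁻¹) * u = u * (g * D.z * g⁻¹) := by
    have h3 := E.z_comm _ h1
    calc (g * D.z * g⁻¹) * u = g * (D.z * (g⁻¹ * u * g)) * g⁻¹ := by group
      _ = g * ((g⁻¹ * u * g) * D.z) * g⁻¹ := by rw [h3]
      _ = _ := by group
  have h3 := mem_zpowers_of_comm E (isConj_iff.2 ⟨g, rfl⟩) hu hu1 h2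
  have h4 : g⁻¹ ∈ normalizer (D.P : Set G) := H966.TI.mem_norm E h3 (by group)
  exact hg (by
    have h5 := inv_mem h4
    rwa [inv_inv] at h5)

end Cfsg.Agent.H608.HT
end

-- part: H608/HT/J4b
section
/-!
# S4933: `J₄`, `p = 11` (helper608): the principal block has a character of positive height
-/

set_option autoImplicit false
set_option linter.unusedSectionVars false

open Cfsg Subgroup
open scoped Pointwise

namespace Cfsg.Agent.H608.HT

open Cfsg.Agent.H265.J4LP

universe u v

section

variable {G : Type u} [Group G] [Finite G] {D : Data11 G}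

/-- some degree is divisible by 11 but not by 1331 -/
theorem exists_deg (E : Eleven D) (hN : Nat.card G = 86775571046077562880) :
    ∃ χ : IrrCharacter G, 11 ∣ charDegree (χ : G → ℂ) ∧ ¬ 11 ^ 3 ∣ charDegree (χ : G → ℂ) := by
  classical
  have : Fact (Nat.Prime 11) := ⟨by norm_num⟩
  have := Characters.Core.finite_irr (G := G)
  have := Fintype.ofFinite (IrrCharacter G)
  by_contra hcon
  push Not at hcon
  obtain ⟨a, b, h11⟩ := H34.TI.cols11 E hN
  have hz1 : D.z ≠ 1 := by
    intro h
    have h2 := E.ord_z
    rw [h, orderOf_one] at h2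
    omega
  have h1 := moment (G := G) 11 (by rw [hN]; norm_num) (by rw [hN]; norm_num) hz1 (by rw [E.ord_z]) a
    (fun χ => (h11.a_eq χ).symm) (fun χ => by
      have h2 := h11.cong χ
      have h3 := h11.cong' χ
      unfold H34.TI.dg at h3
      push_cast
      omega) (fun χ => by
      by_cases h : 11 ∣ charDegree (χ : G → ℂ)
      · exact Or.inr (hcon χ h)
      · exact Or.inl h)
  have hcz : Nat.card (centralizer ({D.z} : Set G)) = 31944 := E.card_cent 0
  have hiz := H34.TI.index_eq (m := 2716490453483520) hN hcz (by norm_num)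
  obtain ⟨t, ht⟩ := n2_mod E
  rw [hiz, ht] at h1
  push_cast at h1
  omega

/-- the members of positive defect lie in the principal block -/
theorem mem_principal [Fact (Nat.Prime 11)] (E : Eleven D) (hN : Nat.card G = 86775571046077562880) {M : Ideal AlgInt}
    (hM : IsPModular 11 M) (χ : IrrCharacter G) (hχ : ¬ 11 ^ 3 ∣ charDegree (χ : G → ℂ)) : χ ∈ principalBlock M G := by
  have hMp := Blocks.Local.isPrime_of_isPModular hM
  obtain ⟨P, hP⟩ := exists_sylow E hN
  have hTI : H34.TI.IsTI (P : Subgroup G) := by rw [hP]; exact isTI E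
  have hv : (Nat.card G).factorization 11 = 3 := by
    rw [hN]
    exact H34.TI.fact_eleven (by norm_num) (by norm_num) (by norm_num)
  have hB : IsPBlock M (blockOf M (χ : G → ℂ)) := ⟨χ, rfl⟩
  have hmem : χ ∈ blockOf M (χ : G → ℂ) := Blocks.Basic.mem_blockOf_self χ
  rcases H608.TI.defect_P hM P hTI hB with h | ⟨χ', h1, h2⟩
  · -- full defect
    obtain ⟨ψ, hψ, -, h4⟩ := H592.Defect.exists_height_zero 11 hM hB
    have h5 := Cfsg.Agent.S0908.result 11 M hM _ hB _ h
    rw [P.card_eq_multiplicity, hv] at h5
    have h6 : blockDefect 11 (blockOf M (χ : G → ℂ)) = 3 := (Nat.pow_right_injective (by norm_num : 2 ≤ 11) h5).symm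
    rw [h6, hv] at h4
    have h7 : (charDegree (ψ : G → ℂ)).factorization 11 = 0 := by omega
    have h8 : ¬ 11 ∣ charDegree (ψ : G → ℂ) := by
      intro h9
      have h10 := (Nat.Prime.dvd_iff_one_le_factorization (by norm_num : Nat.Prime 11)
        (Blocks.Basic.charDegree_pos ψ.2).ne').1 h9
      omega
    have h9 : ψ ∈ principalBlock M G := H633.Unique.mem_of_centralizer hM P (J4.pgroup_cent E hN P) ψ h8
    have h10 : blockOf M (χ : G → ℂ) = principalBlock M G :=
      Blocks.Basic.isPBlock_eq_of_mem hB Blocks.PrincipalSection.isPBlock_principalBlock hψ h9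
    rw [← h10]
    exact hmem
  · exfalso
    rw [h1] at hmem
    have h3 : χ = χ' := hmem
    subst h3
    apply hχ
    have h4 : (charDegree (χ : G → ℂ)).factorization 11 = 3 := by
      rw [← hv]
      exact h2
    have h5 := Nat.ordProj_dvd (charDegree (χ : G → ℂ)) 11
    rwa [h4] at h5

end

attribute [local instance] H877.IMJ4.finJ4

/-- **(J₄, 11)** -/
theorem exists_pos [Fact (Nat.Prime 11)] {M : Ideal AlgInt} (hM : IsPModular 11 M) :
    ∃ χ ∈ principalBlock M Spor.J4, 11 ∣ charDegree (χ : Spor.J4 → ℂ) ∧ ¬ 11 ^ 3 ∣ charDegree (χ : Spor.J4 → ℂ) := by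
  obtain ⟨χ, h1, h2⟩ := exists_deg El.eleven H735.J4C.hN
  exact ⟨χ, mem_principal El.eleven H735.J4C.hN hM χ h2, h1, h2⟩

end Cfsg.Agent.H608.HT
end

-- part: H608/HT/J4c
section
/-!
# S4933: `J₄`, `p = 11`: the row (helper608)
-/

set_option autoImplicit false

open Cfsg Subgroup

namespace Cfsg.Agent.H608.HT

universe u

attribute [local instance] H877.IMJ4.finJ4

/-- heights of the principal block are the exponents of `p` in the degrees -/
theorem fact_add_two_le {G : Type u} [Group G] [Finite G] {p : ℕ} [Fact p.Prime] {M : Ideal AlgInt} (hM : IsPModular p M)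
    (χ : IrrCharacter G) (hχ : χ ∈ principalBlock M G) (h : p ∣ charDegree (χ : G → ℂ)) :
    (charDegree (χ : G → ℂ)).factorization p + 2 ≤ (Nat.card G).factorization p := by
  have hMp := Blocks.Local.isPrime_of_isPModular hM
  have := Fintype.ofFinite G
  have h0 : (0 : ℕ) ∈ ((fun ψ : IrrCharacter G => (charDegree (ψ : G → ℂ)).factorization p) ''
      (principalBlock M G)) := by
    refine ⟨⟨fun _ => 1, Blocks.Basic.isIrrCharacter_one⟩, Blocks.PrincipalSection.one_mem_principalBlock, ?_⟩
    show (charDegree (fun _ : G => (1 : ℂ))).factorization p = 0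
    rw [Blocks.Basic.charDegree_of_eq (n := 1) (by simp)]
    simp
  have h1 : blockHeight p (principalBlock M G) (χ : G → ℂ) = (charDegree (χ : G → ℂ)).factorization p := by
    unfold blockHeight
    rw [Nat.sInf_eq_zero.2 (Or.inl h0), Nat.sub_zero]
  have h2 : 0 < (charDegree (χ : G → ℂ)).factorization p :=
    (Nat.Prime.dvd_iff_one_le_factorization (Fact.out : p.Prime) (Blocks.Basic.charDegree_pos χ.2).ne').1 h
  have h3 := H657.BrauerFeit.height_add_two_le hM (Blocks.PrincipalSection.isPBlock_principalBlock) hχ (by rw [h1]; exact h2)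
  rw [h1] at h3
  refine h3.trans ?_
  unfold blockDefect
  exact Nat.sub_le _ _

theorem posLe_J4 : H468.HT.PosLe 11 1 Spor.J4 := by
  have : Fact (Nat.Prime 11) := ⟨by norm_num⟩
  obtain ⟨M, hM⟩ := Blocks.ExistsModular.exists_isPModular (p := 11) (by norm_num)
  obtain ⟨χ, h1, h2, -⟩ := exists_pos hM
  refine ⟨χ, ?_, h2, fun h3 => ?_⟩
  · rw [H317.PQ.B0_eq (by norm_num) hM]
    exact h1
  · have h4 := fact_add_two_le hM χ h1 h2
    have h5 : (Nat.card Spor.J4).factorization 11 = 3 := by
      rw [H735.J4C.hN]
      exact H34.TI.fact_eleven (by norm_num) (by norm_num) (by norm_num)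
    have h6 : 1 + 1 ≤ (charDegree (χ : Spor.J4 → ℂ)).factorization 11 :=
      ((by norm_num : Nat.Prime 11).pow_dvd_iff_le_factorization (Blocks.Basic.charDegree_pos χ.2).ne').1 h3
    omega

/-- **(J₄, 11)** of S4933 -/
theorem good_J4_11 {S : Type u} [Group S] [Finite S] (h : Spor.IsoJ4 S) : H468.HT.Good 11 S := by
  obtain ⟨e⟩ := h
  exact (posLe_J4.of_equiv e.symm).good fun _ a ha _ => ha

end Cfsg.Agent.H608.HT
end

-- part: H307/HT/HS5
section
/-!
# S4933: `HS`, `p = 5` (helper307)

* `not_dvd_five` : `25` does not divide `|C(y)|`, `y` of prime order different from 5;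
* `nb_five`      : the characters outside the principal 5-block have degree divisible by 25;
* `pos_five`     : the character of degree `770 = 2 · 5 · 7 · 11`.
-/

set_option autoImplicit false

open Cfsg Subgroup

namespace Cfsg.Agent.H307.HT.HS5

open Cfsg.Agent.H316.HT Cfsg.Agent.H709.PB Cfsg.Agent.HN.HS100
open Cfsg.Agent.H904.HSCent

universe u

theorem card_Q : Nat.card Q = 44352000 := Cfsg.Agent.HN.AutBound.card_Q

theorem iso_Q : Spor.IsoHS Q := Cfsg.Agent.HN.AutHS.nonempty_Q.1

theorem finite_Q : Finite Q := Nat.finite_of_card_ne_zero (by rw [card_Q]; norm_num)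

/-- the centralizer of an element of order 3 -/
theorem card_three {y : Q} (hy : orderOf y = 3) : Nat.card (centralizer ({y} : Set Q)) ∣ 360 := by
  have := finite_Q
  obtain ⟨D, ψ, R⟩ := exists_rep iso_Q
  obtain ⟨x, z, hx, hz, hxz, hzx, h1, h2, h3, -, -⟩ := Cfsg.Agent.H757.WkHSThree.three R
  have h27 : ¬ 27 ∣ Nat.card Q := by rw [card_Q]; norm_num
  have hcard : ∀ g : Q, orderOf g = 3 → Nat.card (centralizer ({g} : Set Q)) = Nat.card (centralizer ({x} : Set Q)) :=
    fun g hg => Cfsg.Agent.H757.WkGrp.card_cent_of_sylow h27 hx hz hxz hzx h1 h2 h3 hg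
  obtain ⟨w, φ, hw, hker, -⟩ := Cfsg.Agent.H877.EP.HS.exists_x
  rw [hcard y hy, ← hcard w hw, ← Subgroup.card_mul_index φ.ker, Subgroup.index_ker, hker,
    show (360 : ℕ) = 3 * 120 by norm_num]
  refine Nat.mul_dvd_mul_left 3 ?_
  have h5 : Nat.card (Equiv.Perm (Fin 5)) = 120 := by
    rw [Nat.card_perm, Nat.card_eq_fintype_card, Fintype.card_fin]
    rfl
  rw [← h5]
  exact Subgroup.card_subgroup_dvd_card _

/-- the centralizer of an involution -/
theorem not_dvd_two {t : Q} (ht : orderOf t = 2) : ¬ 5 ^ 2 ∣ Nat.card (centralizer ({t} : Set Q)) := by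
  have := finite_Q
  have hf5 : Fact (Nat.Prime 5) := ⟨Nat.prime_five⟩
  intro h25
  obtain ⟨E', hE'⟩ := Sylow.exists_subgroup_card_pow_prime 5 h25
  obtain ⟨x', hx'⟩ := exists_prime_orderOf_dvd_card' (G := E') 5 (by rw [hE']; norm_num)
  have hcomm : IsMulCommutative E' := IsPGroup.isMulCommutative_of_card_eq_prime_sq (p := 5) hE'
  set E : Subgroup Q := E'.map (centralizer ({t} : Set Q)).subtype with hE
  have hEc : Nat.card E = 25 := by
    rw [hE, ← Nat.card_congr (E'.equivMapOfInjective _ (subtype_injective _)).toEquiv, hE']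
    norm_num
  have ht1 : t ≠ 1 := by
    rintro rfl
    rw [orderOf_one] at ht
    norm_num at ht
  have htt : t * t = 1 := by rw [← pow_two, ← ht, pow_orderOf_eq_one]
  have hx : orderOf (((x' : E') : centralizer ({t} : Set Q)) : Q) = 5 := by
    rw [Subgroup.orderOf_coe, Subgroup.orderOf_coe, hx']
  have htx : t * (((x' : E') : centralizer ({t} : Set Q)) : Q) = (((x' : E') : centralizer ({t} : Set Q)) : Q) * t :=
    (mem_centralizer_singleton_iff.1 x'.1.2).symm
  have hDD : E ≤ CpAut.SmallP.DD (((x' : E') : centralizer ({t} : Set Q)) : Q) t := by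
    rintro _ ⟨e, he, rfl⟩
    rw [CpAut.SmallP.mem_DD]
    refine ⟨mem_centralizer_singleton_iff.1 e.2, ?_⟩
    have h6 := hcomm.is_comm.comm (⟨e, he⟩ : E') x'
    exact congrArg (fun w : E' => ((w : centralizer ({t} : Set Q)) : Q)) h6
  have h4 := (card_dvd_of_le hDD).trans (CpAutHSFive.card_DD iso_Q htt ht1 hx htx)
  rw [hEc] at h4
  norm_num at h4

theorem not_dvd_five (y : Q) (hy : (orderOf y).Prime) (h5 : orderOf y ≠ 5) :
    ¬ 5 ^ (3 + 1 - 2) ∣ Nat.card (centralizer ({y} : Set Q)) := by
  have := finite_Q
  intro hd
  norm_num only [] at hd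
  have h1 : orderOf y ∣ 44352000 := by rw [← card_Q]; exact _root_.orderOf_dvd_natCard y
  rcases Cfsg.Agent.H513.PQ.HS.prime_cases hy h1 with h | h | h | h | h
  · exact not_dvd_two h (by norm_num only []; exact hd)
  · have h2 := hd.trans (card_three h)
    norm_num at h2
  · exact h5 h
  · rw [Cfsg.Agent.H904.HSIso.card_seven iso_Q h] at hd
    norm_num at hd
  · rw [Cfsg.Agent.H904.HSIso.card_eleven iso_Q h] at hd
    norm_num at hd

theorem nb_five : NB 5 2 Q := by
  have := finite_Q
  have hf5 : Fact (Nat.Prime 5) := ⟨Nat.prime_five⟩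
  exact NB.of_orders (a := 3) (by rw [card_Q]; norm_num) not_dvd_five

theorem pos_five : H468.HT.Pos 5 Q := by
  have := finite_Q
  exact H468.HT.Pos.of_nb Nat.prime_five nb_five Cfsg.Agent.H678.DG.HSDeg.deg_770 (by norm_num) (by norm_num)

/-- **`Good 5 HS`** -/
theorem good_hs_5 {S : Type u} [Group S] (h : Spor.IsoHS S) : H468.HT.Good 5 S := by
  have := finite_Q
  obtain ⟨e⟩ := h
  obtain ⟨f⟩ := iso_Q
  exact (pos_five.of_equiv (f.trans e.symm)).good

/-- **(HS, 5), inner part** -/
theorem rowIn {S : Type u} [Group S] (h : Spor.IsoHS S) : RowIn 5 S := by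
  have : Fact (Nat.Prime 5) := ⟨by norm_num⟩
  have : Finite S := H513.PQ.HS.finite_s h
  exact H468.HT.rowIn_of_good (good_hs_5 h)

/-- **(HS, p), outer part, `p` odd** -/
theorem rowOut {S : Type u} [Group S] (h : Spor.IsoHS S) {p : ℕ} [hp : Fact p.Prime] (hp2 : p ≠ 2) : RowOut p S :=
  H468.HT.rowOut_of_out hp2 (H489.card_out_sporadic (by simp only [IsSporadicGroup, h, true_or, or_true]))
    fun A _ N he => he.elim fun e => H55.OutGen.card_out_congr e

/-- **(HS, 5)** -/
theorem row {S : Type u} [Group S] (h : Spor.IsoHS S) : Row 5 S := by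
  have : Fact (Nat.Prime 5) := ⟨by norm_num⟩
  have : Finite S := H513.PQ.HS.finite_s h
  exact H624.HT.Row.of (rowIn h) (rowOut h (by norm_num))

end Cfsg.Agent.H307.HT.HS5
end

-- part: H597/HT/NVRuON
section
/-!
# S4933: the rows of `Ru` and `O'N` at the prime 2 (helper597)

The Sylow 2-subgroups are not metabelian.
-/

set_option autoImplicit false
set_option maxRecDepth 100000

namespace Cfsg.Agent.H597.HT

open Cfsg Subgroup
open Cfsg.Agent.H483.HT Cfsg.Agent.H316.HT
open scoped commutatorElement

universe v

theorem row_of_nv {p : ℕ} [Fact p.Prime] {S : Type v} [Group S] (h : NV p S) : Row p S := by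
  intro A _ _ N _ hN _ M _ P a ha hcd
  obtain ⟨e⟩ := hN
  exact (NV.vacuous' (NV.of_subgroup (h.congr e.symm)) P ha hcd.1 hcd.2).elim

/-! ### The Rudvalis group -/

section

open Cfsg.Agent.Schreier.RuSyl

theorem nv_H : NV 2 Cfsg.Agent.SporadicB.RuOrder.H := by
  refine ⟨T, Cfsg.Agent.Schreier.RuTr.isPGroup_T, L 1, L_mem_T 1, L 2, L_mem_T 2, L 0, L_mem_T 0, L 2, L_mem_T 2, ?_⟩
  have h1 : ⁅L 1, L 2⁆ = W [1, 2, 1, 2] := by
    rw [commutatorElement_def, inv_eq_of_mul_eq_one_left (L_sq 1 (by norm_num)),
      inv_eq_of_mul_eq_one_left (L_sq 2 (by norm_num))]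
    simp only [W_cons, W_nil, mul_one, mul_assoc]
  have h2 : ⁅L 0, L 2⁆ = W [0, 2, 0, 2] := by
    rw [commutatorElement_def, inv_eq_of_mul_eq_one_left (L_sq 0 (by norm_num)),
      inv_eq_of_mul_eq_one_left (L_sq 2 (by norm_num))]
    simp only [W_cons, W_nil, mul_one, mul_assoc]
  rw [h1, h2]
  intro h
  have h3 : W ([1, 2, 1, 2] ++ [0, 2, 0, 2]) = W ([0, 2, 0, 2] ++ [1, 2, 1, 2]) := by
    rw [W_append, W_append]
    exact commutatorElement_eq_one_iff_mul_comm.1 h
  have key : ∀ p : Fin 4060, ev ([1, 2, 1, 2] ++ [0, 2, 0, 2]) p = ev ([0, 2, 0, 2] ++ [1, 2, 1, 2]) p := by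
    intro p
    rw [← W_apply, ← W_apply, h3]
  have hne : ¬ ∀ p ∈ ([0, 29, 580, 577] : List ℕ), ev ([1, 2, 1, 2] ++ [0, 2, 0, 2]) p =
    ev ([0, 2, 0, 2] ++ [1, 2, 1, 2]) p := by decide +kernel
  apply hne
  intro p hp
  simp only [List.mem_cons, List.not_mem_nil, or_false] at hp
  rcases hp with rfl | rfl | rfl | rfl
  · exact key ⟨0, by norm_num⟩
  · exact key ⟨29, by norm_num⟩
  · exact key ⟨580, by norm_num⟩
  · exact key ⟨577, by norm_num⟩

end

theorem nv_Ru : NV 2 Cfsg.Spor.Ru := nv_H.congr Cfsg.Agent.RuLat.Main.equiv.symm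

/-- **the row of `Ru`** -/
theorem ru_2 (K : Type) [Group K] [Finite K] [IsSimpleGroup K] (_ : ¬ IsMulCommutative K) (h : Spor.IsoRu K) :
    Row 2 K := by
  obtain ⟨e⟩ := h
  exact row_of_nv (nv_Ru.congr e.symm)

/-! ### The O'Nan group -/

section

open Cfsg.Agent.UGT.C.PcTab Cfsg.Agent.UGT.C.BalONTab Cfsg.Agent.Schreier.ONRel

theorem relsON (hs : IsSimpleGroup Spor.ON) : Rels s 9 sq cj :=
  ⟨fun _ hk => s_sq hs hk, fun _ hk _ hi => s_cj hs hk hi, sq_lt, cj_lt⟩

/-- the element with the code `x` -/
noncomputable def EO (x : ℕ) : Spor.ON := ev s x 9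

theorem EO_inj (hs : IsSimpleGroup Spor.ON) {x y : ℕ} (hx : x < 512) (hy : y < 512) (h : EO x = EO y) : x = y :=
  code_inj (relsON hs) le_rfl (Cfsg.Agent.Schreier.ONTr.card_T hs) hx hy h

theorem EO_mul (hs : IsSimpleGroup Spor.ON) {x : ℕ} (hx : x < 512) (y : ℕ) : EO x * EO y = EO (mu x y) :=
  mul_eq (relsON hs) rules hx y

theorem comm_EO (hs : IsSimpleGroup Spor.ON) {a b u ba ub : ℕ} (ha : a < 512) (hb : b < 512) (hu : u < 512)
    (h1 : mu b a = ba) (h2 : mu u ba = ub) (h3 : mu a b = ub) : ⁅EO a, EO b⁆ = EO u := by
  have e1 : EO u * (EO b * EO a) = EO a * EO b := by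
    rw [EO_mul hs hb, h1, EO_mul hs hu, h2, EO_mul hs ha, h3]
  rw [commutatorElement_def]
  calc EO a * EO b * (EO a)⁻¹ * (EO b)⁻¹ = EO a * EO b * (EO b * EO a)⁻¹ := by group
    _ = EO u := by rw [← e1]; group

theorem nv_ON : NV 2 Spor.ON := by
  have hs : IsSimpleGroup Spor.ON := Cfsg.Agent.S1699.result.1
  refine ⟨Cfsg.Agent.Schreier.ONTr.T, Cfsg.Agent.Schreier.ONTr.isPGroup_T hs, EO 16, ev_mem s 16 9, EO 64, ev_mem s 64 9,
    EO 128, ev_mem s 128 9, EO 256, ev_mem s 256 9, ?_⟩
  have h1 : mu 64 16 = 93 ∧ mu 12 93 = 80 ∧ mu 16 64 = 80 ∧ mu 256 128 = 409 ∧ mu 29 409 = 384 ∧ mu 128 256 = 384 ∧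
      mu 12 29 = 16 ∧ mu 29 12 = 17 := by decide +kernel
  obtain ⟨c1, c2, c3, c4, c5, c6, c7, c8⟩ := h1
  rw [comm_EO hs (by norm_num) (by norm_num) (u := 12) (by norm_num) c1 c2 c3,
    comm_EO hs (by norm_num) (by norm_num) (u := 29) (by norm_num) c4 c5 c6]
  intro h
  have h2 := commutatorElement_eq_one_iff_mul_comm.1 h
  rw [EO_mul hs (by norm_num), EO_mul hs (by norm_num), c7, c8] at h2
  exact absurd (EO_inj hs (by norm_num) (by norm_num) h2) (by norm_num)

/-- **the row of `O'N`** -/
theorem on_2 (K : Type) [Group K] [Finite K] [IsSimpleGroup K] (_ : ¬ IsMulCommutative K) (h : Spor.IsoON K) :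
    Row 2 K := by
  obtain ⟨e⟩ := h
  exact row_of_nv (nv_ON.congr e.symm)

end

end Cfsg.Agent.H597.HT
end

-- part: H118/HT/ON
section
/-!
# S4933, the O'Nan group, `p = 7` (helper118)

The character of degree `52668 = 2² · 3² · 7 · 11 · 19` lies in the principal 7-block and has height one.
-/

set_option autoImplicit false

open Cfsg Subgroup

namespace Cfsg.Agent.H118.HT.ON

open Cfsg.Agent.H316.HT

universe v

theorem pos_seven : H468.HT.Pos 7 Cfsg.Spor.ON := by
  have hfin : Finite Cfsg.Spor.ON := Cfsg.Agent.KFacts.ON.Cent.finite_ON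
  exact H468.HT.Pos.of_nb (by norm_num) H968.PQ.ON.nb_seven (H968.PQ.ON.deg H492.FactsON.exists_52668) (by norm_num)
    (by norm_num)

/-- **(O'N, 7), inner part** -/
theorem rowIn_seven {S : Type v} [Group S] (h : Spor.IsoON S) : RowIn 7 S := by
  have h7 : Fact (Nat.Prime 7) := ⟨by norm_num⟩
  obtain ⟨e⟩ := h
  have hfin : Finite Cfsg.Spor.ON := Cfsg.Agent.KFacts.ON.Cent.finite_ON
  have hfS : Finite S := Finite.of_equiv _ e.symm.toEquiv
  exact H468.HT.rowIn_of_good (pos_seven.of_equiv e.symm).good

/-- **(O'N, p), outer part, `p` odd** -/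
theorem rowOut {S : Type v} [Group S] (h : Spor.IsoON S) {p : ℕ} [hp : Fact p.Prime] (hp2 : p ≠ 2) : RowOut p S :=
  H468.HT.rowOut_of_out hp2 (H489.card_out_sporadic (by simp only [IsSporadicGroup, h, true_or, or_true]))
    fun A _ N he => he.elim fun e => H55.OutGen.card_out_congr e

end Cfsg.Agent.H118.HT.ON
end

-- part: H118/HT/ONRow
section
/-!
# S4933, box s.ON.7: the row (O'N, 7) (helper118)
-/

set_option autoImplicit false

open Cfsg Subgroup

namespace Cfsg.Agent.H118.HT.ON

open Cfsg.Agent.H316.HT

universe v

/-- **(O'N, 7)** -/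
theorem row_seven {S : Type v} [Group S] (h : Spor.IsoON S) : Row 7 S := by
  have h7 : Fact (Nat.Prime 7) := ⟨by norm_num⟩
  have hfin : Finite Cfsg.Spor.ON := Cfsg.Agent.KFacts.ON.Cent.finite_ON
  have hfS : Finite S := h.elim fun e => Finite.of_equiv _ e.symm.toEquiv
  exact H624.HT.Row.of (rowIn_seven h) (rowOut h (by norm_num))

end Cfsg.Agent.H118.HT.ON
end

-- part: H31/HT/ThThree
section
/-!
# S4933, the row `(Th, 3)` (helper31)

A subgroup of the Thompson group permutes 27 vectors of `F_3^248`; the permutations of three words generate a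
3-group of derived length 3. `dd_th : DD 3 Th`, `row_th : Spor.IsoTh S → Row 3 S`.
-/

set_option autoImplicit false
set_option maxRecDepth 100000

open Cfsg

namespace Cfsg.Agent.H31.HT.ThThree

open Cfsg.Agent.Th.Words248 Cfsg.Agent.Th.Gen248 Cfsg.Agent.Th.OrbitChain Cfsg.Agent.Th.Hom248
open Cfsg.Agent.H316.HT Cfsg.Agent.H720.HT Cfsg.Agent.H681.IP

/-- the packed rows -/
def R : ℕ := 0x100200401002004004010020040080100200200800800004000000010020040100100400400802002000010010040000080200400000800002004010020000040080200200401001004004008010000080100200200000801004004010010020080080200200400000000000010010020080080000200401000000008000020020040080100400001002000008008020000040080100000801000000004008010040040100200000401001004000008020020080080000400001000004004000010000080100000200000802004000010010040040000100000000001000008000020040000100100000000002004000000000000080080000000801002002000008000040040080100400800801004000010010040080080100400400802002008008020040000080000400000802004004010010020080080000200000800000000000010000080080200200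000002004000010000040040100200400401001004004010010040000000200200801002000008010000000080080200400000000002000008020000040100000000401002004000010000020040080000000801002000000008000020080100100400401001002008010010020000100000400801001002008000000020000100000200800001002000008010000000100000000800001000000010010040080100000000400801004000010020020040000100200000802000000008000040080100200400001001000004010020020000000100400400000002008000010020000000100000800002004000010010000040000000000400800004008008000000080100200400000800004004008010040080080200400401001004008008010040040100000400801001004000000000020000080200400801001002000010000020000080000000000001000008008020020000000200200000802000004010020040040100000400001000000004010010000040080000400001002002000008020000000080200000000802002008000000040040100200200800001002004000020020000000000000400001002004000010040040100100200800000002008008000020040100100200801000002008010000040080000000200800801002000010010000080100000000800001002008010000000040080100400801002004004008010000000080200400400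800004004010010040080080100000001001002000010000040080080200000000001004000000010000080000200400001001000008000010020080100000200800800000008010020000000080000400400801004008008000040080100100400800801004004000010000080000000400001000000000008020040000100100200400000002000008000000000000100000800802002000000020040000080200400401001004004008020000040100000200400001002000000010040040100000400400802002000000020020000080200200800001000000008020020040080200200801002000008000020020080080200000800001004004010000020000100100200400000000000010020000000080000200801000002008000000020080080100000400001000008010010000080000200200800000002000008010040000080200400000001000004000020000080080000400401001004000010020040040080100400000801000004010000020000000100000000001000004010020020000100100000000002000000008000040080080000000001000002000008020040040080100400800801004000010010040080080100400400802002008008020040000080000400000802004004010010020080080000200000800000000000010000080080200200000002000004010020040040100000000801001000004010010000080100200000001002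000000008020020000000100000000802004000008010000000000200400000002000000008020020000100000400400002002008000000000040000100200400001002004000010020080100000200801002004004008000020040000000200800001002000008010020000080000000801002000008008010020080100000200400801004008000020040080100100400001002002004008000040080100000200800802004008000010000080000000000000802000004000010020000000100000000802000004010010000080000000000000000000008008000000000100200000001001004004008010040080080200400401001004008008010040040100000400801001004000000000020000080200400801001002000010000020000080000000000001000008008020020000000200200800002004004010020020000000000000401002004000008000040000080000200800001000008010000040000100200000000800004004000000020000100200400800802002004010010020000000200200801001000000000010000040080200200800801002000008000040040100200200800800002000008000020080000200200400801004008010020000080100000000801000002008008000020080080100400401002004004008010020080080200400000800004000010020000040000200400001001002004010020000080000100400800001004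000000010000080000200400801001000004000010000000100000200800800000000010010040000000000400400801004008008000040080100100400800801004004000010000080000000400001000000000008020040000100100200400000002000008000000000000100000800802002000000020040080000200000401002000000008010040000100100000801000000000000010020040080200000801002000000000010000000080100000000001000004008020040000000200200401002002004000010020000100100400800802004004010020020000080200200000000004000010000000080000000200801002000008000000020000080100000400800000008000020000040100200400800800002004008010040000080200200801001002008010020040000080000400401001000008010000000040080200200800001002004000010000000000100200000001000008010020040040100100000000002002000008000020080080000000401002004000008020040040080100400800802004004010010040080080100400401000004008010010040000000000200000802004008010010020000100000200000800000000000010000080080200200000002004004000000040040100000400800000004004010010000000080000400401002002004010010000080000000000000802000000008020000040100000400401002002008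010010020000000200200401000002008008020040040000200000400801002008010000020000100000400801000002004008000020040080200400800000002000008010020080000000000800802000008000000000080100000200000801004008010020000000100100000000002004000008000040040100000200400800000004010000000000100000200400000004004000010040000000100000000002000000010010000000000000000800800002008008000000040100000400000000004004008010040080080000400801001004008008010040040000100000800000004000010000000000080200400001001002004000000020000080000000000001000008008020020000000200400000001002004010010020040100200400801001000004000000020080080000200400000000008008010000000100000000000800000008008020020040000200000400800002008008020020040080200200400000004000010020020040000000200400001002000008000040040100000400001000002000000020020080000000200000801004000010000000080100200000000801002008000000020080080100400400002004004010010040040080200400000800004004010020040000000000000400001004004008020020040000200200800001000000000010000040080200200801001000000000010040040080000200800800000004010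010040000100100400400801004008008010040000100100400800801004004008020020080080200400000800004000008020040040100100200800800002000008000000000000100000800802002000000020000080100000400401002004004000000040000100100000000800004008008010000080080000400001001004000000000000040080200000800802000004008020020080100100200801002000000008000000080080100400000000000004008020020080100100200801000000008010010000000080000200001000004008010010020040080100400800000000008010000000080000100400801000000000008010040040100200400800001002008008020000040080000400401002000008000020000080100000400001000004000008010020080000100000000001000004000020020000100200000400000004004000000000080080000000801001004000000010040040080100200401002002000008020020040100200200801001004004010010020000100000200001001002008008020040040100000400001000000000000020000040100100400000001000000000020020040100000200801002002008010020000000100000000000000002004010000000040080100400000000002008008000040000000200000800002004004010000020000080100000401001004000008010040000100200000400802002000000000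020040100000400001001004008000000020080100100000801000002008008010040000000200000800002000008010020000080100000200400801004004008020020080080100400800802002008008000040000100100000000002002008010010020040080200400001000004000000010020000000100000801002004008010020000000000200200000000002008008000000080100000000000000004004008010020040100000200400802002004010020020080000200000400000002000008000000000100100200000802004008000000040000100000000000002000004010010040000000100000400801000004010010000000080100000401000000000000000020040100200400000000002008000010040000000000400000801002004010020000000100200000001002002004000000000080000200200400801004000008010000040080200200400802002000010000020040100100200401000002004010020020080100200200000801004004000010000080080100000800800002008010000040080080100400400002000008010010000080080200400000800004008010000000040000200400801002000008000010040000000200000400001004000000010000000080200000401002000008000010000080000000400800800000008010020020000000200400400801002004010010020080080200200401002002008008000020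040080200200000000004000010010020040080200400000800004000010000000000000200000401001004000000010000080100000400401002004004008020040000100000000801000004004010000040080100000400800000004000010000000080080000400000000004000010020000080080000200401001002008010000000000100200400001000000004008020020080000200200400000000008010000000000100000200401001000008008020020080080100000000800000008000010000000080200400800000000000008010040000080200000400001000004010020000080080000400401000002004008010040000000100200000002000000010010000080000100000000001000008000020040040100000000400002004004000000000080080000000401001000000008000040040080100200401002002000008020020040100200200801001004004010010020000100000200001001002008008020040040100000400001000000000000020000040100100400000001004004010000000040100200400000801002000010000020080000200000000802004008010000020040080200000001001000000008000040040080100400400002002004000010020000100200400401000004000010020040000000200400401000002004008020020080000000200001000002000010000020000000200000800800002008008010000000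100000000801002000004000020020080100000200800801004000010020020000100100200000802000004008000040080100200000800801000008010000020000100100000400800002000000010020000000100000800802004004010000000040000100000800800000008008000000040100200400001001004004008010020040100000200400802002004010020020080000200000400000002000008000000000100100200000802004008000000040000100000000000002000004010010040000000100200001000002004010020040080080000000001000004008008010020080000100400801000000000010010020000100200000400800004008010020040080080200400001002002008010000000000100000200001002004000008010020040000100200001002002000000000040040100000400001000002008008000000080080100200800801000000000000000080080000000801002000008008000040040080100400000002004008008010040080000200000000800004000010010040000080100200400802002000008000000080000200400400001004000000010000080100200400401000000004000000020000100000000800800000004010000020000000200400400801002004010010020080080200200401002002008008000020040080200200000000004000010010020040080200400000800004000010000000000000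200000401001004000000010040080100200000401002004004010000040040100100200801002002008000000040000000200000800802000000010020040040080100400000800000008000020020040080000200801002004008008010040080080100400800800000004008020020080100200200801000004004010020000000100000200401002004008000020020080080100400401001000008000010000000000000200800800000000008010040040000200400000801002000000020040040080000400001000000008008000020000100100000000002002004008000020000000100200000001000000000020000080100100000800002000008008000040080080000000001001004000010020040040080100200401000002004008020020040100200200800002000004000000020000080000000001001002000008020040080000000400001000000000000020000040100100400000001000008008000000040100100000400002002008010000000080000000400801002002004010020000080080000400001001002008008000000040080200000000002004000010000020080000200200800000002004008010040080080200200400001002008000000020080100000400801002000004000000020000080000200800002002004008010040000080200000800001000008010020020080100000200000801004004000020040040080100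400400802002004008000040000100200200000800004004000010020080100100200000802004004000010040000000100000800002004000010010000000000100000800000002008008000000000100100400000802004004008010020040100100200800802002004010020020080080000200400802002000000000040000100100200400802004000008000040000100000000000002000004010010040000000100200800001000004010000020040080100000001002004008008010000080080100000800802000008008010020000100000000000802002008008010000040000200000800000002008008020000080100200000000801004008008010040040100000200800801002008010000040000100200000800800002008000010000080000200200000801004008000000000080000100000400801002008000000040000080100400400002004008008010000080100200000400800004000010010040040080000000800801004004008000020080080100000800001000000000010000040000200200401001000004000000000080100000000800800000000010010040000000200400400801002004010020020000080200200401002002008010010040040100100200001000002000010010020080080200400401000004000010000000000000200000401001004000000010020000000100200000002000004010000020080000200400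800802002008008010040040100000200801001002000008010020040000200000800802002000008000020080080200000800801000000008000040080080200200400802000000008000000000080100000800800000008000000020080080000000801001000000010000000040000000000400802000000000020000080100200000000000000000000000000080000000000000800000008000000020080000000000800002000000000000000000080100000800802000008000020040080000000000000000000004008000020040000000000800000004004008000020000000000000000001000000010010000000000000000801001000004000000000000000000400001002004004000010000000080000200000000000000010010000000000200000000000000008010000000000000000200000000004008000000020000000100200000002004004000020020040080000200800001004004008010040000000100000000002002000000010000000080200400801000002004000020000040000000400401001000000010010020080080000000000800000008010000000040100000400800000004000000000000040100000200001002000004000000040000080200000000001000000010010000000000000400800000000000008000000000100000000800000002000000000000040000100000000800004004008010020040000100000400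801004000000000020000000000000001000000008000000000080000000400400000002000000000000000000200200001002000000000000000080100200000800000000000000000040000000000000400800000000000000000000000000000401001000004008020000000000000000801000000000000000020000000000000400002002000000000040080080100000000002000000008010020080100100400400002000004008010040000100000200800000000004008020000040000000200001002000000010020020080000200200400000002000008010000000080000000400002000000000000020080000000000401000000000010020040000100100000400000002008008020000000000000000401000000000000000020040000000000401000000000000000000080000000200400000000000000000000000100000200800801004000010000000000100000400400000004000000000000080000000400000000000008000000040040100000200000000000000000000040000100000000000000000008010000000000000000000000000004000008010020040100200000001000004000000000000080100100000801002000000000000000080100000000000000002000000000000000000000200000001002000000000020080000000400400800000000010000040080100100200800001002000010000020080000200000000802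002008008000020000100200000401000004000008010040000100000000801001002000000010000040100100000000000004008000000020040000000000001002004000008010000080000000200801000000000008010000080100000000000000004008000000000040000000000001000000000008000000000000000000800002000004010000040000000200200400000004000010020000000000000400000000000000000000000000000100000400002002008010000020000000000000000002004000010020000000000000000801001000004000000020040000000400000000000004008020000000100000400000000000000000010000000000100000000000000000000000000000000000200000000000000010000000000000200000001002004008000020040000080000000400800002000000020000040000000200000802000004000000020040000000400400800002008000010000040100100400800801000000000020000000080200000000802000004000010000040080000000800000002000000000000080000100400000802000004000000000000000100000001002000004010010020000100000200800000000008000000040080080000000800000004008000000000000000100400400000002000010000000080100200400000801000004000000000000000000000400000002008000010000080000200000401000000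000000000000000000200200000002000000000000000080100200000800000002004000000040000080100200401001000000008000020000000000000400001000004008010000000000000000000000000000000000020000000000000000800004000000000040000080100000800001004008008000000080000000000400800004000000020020000000100400000001004008010010000000080000200400800000004010020040040080100200000801000004000000040000100000000400801000008010000020080000000200800000000004008000040000080000000000000004004008020000000000000000001002004000008000000080000000000000000002004000000000040100000200400000000004000000020040080000000000801004000008010040000000000000800000002000000000000080000000400400001000000000020040000100000400000000000000000020000000080200000000000000008010000000000000000200400000004000010020040040000000000000000000000000000000080000100000801001000000000000000000000000000000000002000000000020000080100000000002000008010000000040000100000800000002008008000040000080100000400802004000010020020080000100000800800004008008000000040000100000800000004008010000020080080000400400802000000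008010000080000000000801000004004000000020040080000000400801004000000000000000000000200801001000000000010000080000000200000800004004000000000040000000400401000004008000000040000000000000000002004004010000040080080100000801000002008000020000040000000200000000000004010000020000000200000000002004008008000020000000000000000000000000008000000000000000000801001000004000000040080000000400000801002004010000000000000000000000000000000008010000000000000000000000000004008000000000000000200000000000004010020020000000200000001002002008000020020040000200200400000000008008020000040000000000000802004004000010040000100200000400000000000000020000000080000000800802004004010020040080100000200000000000000008010000080000000400400000000004010000000000000000200000000000004000000000080080000000001001000008000000000000100000200800000000008010000000080100000400000800000000000000000000000100000400000002004010000000080080200200000001000008000000040000000000000400800002000000020000080000200000001000004000000000000000000200000000002000000000000000080100200000800000004008000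00004000010020040040000200000001000004000000000000040080100000400800000000000000000040080000000000000002000000000040080000000400000002000004010010040000000000400000001002000010000020040080000000401001002000000020000000000100200400001002000010000000080000000000401000002008000010000000000100400000001004000010020000040100200000800800004004000000040040000000000801002000000000000000080000000400800002000000008010000080000000400000000000000000000000000080000200001000004004010000020000000000000000000002004008000000000000200000800001002004000000000000000000000000000000004000000020000000200000400002002004000000000000000000000000001000000010010000000000000000801000000000000000040080000000400000000000004008010000000080000200000000000008008010000080100000000000000000004008000000000000000200000000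

theorem ok : ROk 27 R := rok_of (by decide +kernel) (by decide +kernel) (by decide +kernel)

def lA : List ℕ := [2, 0, 1, 4, 5, 3, 6, 7, 8, 12, 13, 14, 17, 15, 16, 10, 11, 9, 24, 25, 26, 18, 19, 20, 21, 22, 23]
def lB : List ℕ := [6, 7, 8, 0, 1, 2, 3, 4, 5, 15, 16, 17, 10, 11, 9, 14, 12, 13, 26, 24, 25, 20, 18, 19, 23, 21, 22]
def lC : List ℕ := [9, 10, 11, 13, 14, 12, 15, 16, 17, 18, 19, 20, 21, 22, 23, 24, 25, 26, 0, 1, 2, 5, 3, 4, 6, 7, 8]
def lA' : List ℕ := [1, 2, 0, 5, 3, 4, 6, 7, 8, 17, 15, 16, 9, 10, 11, 13, 14, 12, 21, 22, 23, 24, 25, 26, 18, 19, 20]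
def lB' : List ℕ := [3, 4, 5, 6, 7, 8, 0, 1, 2, 14, 12, 13, 16, 17, 15, 9, 10, 11, 22, 23, 21, 25, 26, 24, 19, 20, 18]
def lC' : List ℕ := [18, 19, 20, 22, 23, 21, 24, 25, 26, 0, 1, 2, 5, 3, 4, 6, 7, 8, 9, 10, 11, 12, 13, 14, 15, 16, 17]

def wA : List Lt := [.u, .d, .U, .d]
def wB : List Lt := [.d, .U, .d, .u, .b, .a, .S, .U, .d, .c, .b, .e, .S, .u, .d, .b, .U, .s, .e, .b, .c, .d, .u, .s, .U, .d, .u, .d, .b]
def wC : List Lt := [.a, .S, .U, .d, .c, .b, .e, .S, .u, .d, .b, .U, .s, .e, .b, .c, .d, .u, .s]

theorem cA : chk 27 R wA lA = true := by decide +kernel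
theorem cB : chk 27 R wB lB = true := by decide +kernel
theorem cC : chk 27 R wC lC = true := by decide +kernel

theorem gA : _root_.Cfsg.Agent.Th.OrbitChain.Good R (wA, lA) := good_of ok (by decide +kernel) cA
theorem gB : _root_.Cfsg.Agent.Th.OrbitChain.Good R (wB, lB) := good_of ok (by decide +kernel) cB
theorem gC : _root_.Cfsg.Agent.Th.OrbitChain.Good R (wC, lC) := good_of ok (by decide +kernel) cC

theorem dist : distinctB (rowNums R 0 27) = true := by decide +kernel

theorem row_inj' : ∀ i j : Fin 27, row R i = row R j → i = j := by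
  intro i j h
  have h1 := distinct_inj ok (off := 0) (n := 27) (by norm_num) dist i i.2 j j.2
  rw [Nat.zero_add, Nat.zero_add] at h1
  exact Fin.ext (h1 h)

/-- the function of a list -/
def fn (l : List ℕ) (j : Fin 27) : Fin 27 := Fin.ofNat 27 (l.getD j 0)

/-- the permutations: inverses of the row permutations -/
def pA : Equiv.Perm (Fin 27) := ⟨fn lA', fn lA, by decide +kernel, by decide +kernel⟩
def pB : Equiv.Perm (Fin 27) := ⟨fn lB', fn lB, by decide +kernel, by decide +kernel⟩
def pC : Equiv.Perm (Fin 27) := ⟨fn lC', fn lC, by decide +kernel, by decide +kernel⟩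

/-- `g` moves row `π j` to row `j` -/
def Rel (g : Spor.Th) (π : Equiv.Perm (Fin 27)) : Prop :=
  ∀ j : Fin 27, Matrix.vecMul (row R (π j)) ((rho g : GL (Fin 248) (ZMod 3)) : Matrix (Fin 248) (Fin 248) (ZMod 3)) = row R j

theorem Rel.mul {g h : Spor.Th} {π π' : Equiv.Perm (Fin 27)} (h1 : Rel g π) (h2 : Rel h π') : Rel (g * h) (π * π') := by
  intro j
  rw [map_mul, Units.val_mul, ← Matrix.vecMul_vecMul, Equiv.Perm.mul_apply, h1, h2]

theorem Rel.one : Rel 1 1 := by
  intro j
  rw [map_one, Units.val_one, Matrix.vecMul_one, Equiv.Perm.one_apply]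

theorem Rel.inv {g : Spor.Th} {π : Equiv.Perm (Fin 27)} (h : Rel g π) : Rel g⁻¹ π⁻¹ := by
  intro j
  have h1 := h (π⁻¹ j)
  rw [show π (π⁻¹ j) = j from π.apply_symm_apply j] at h1
  rw [← h1, Matrix.vecMul_vecMul, ← Units.val_mul, ← map_mul, mul_inv_cancel, map_one, Units.val_one, Matrix.vecMul_one]

theorem Rel.unique {g : Spor.Th} {π π' : Equiv.Perm (Fin 27)} (h : Rel g π) (h' : Rel g π') : π = π' := by
  have key : ∀ {σ : Equiv.Perm (Fin 27)}, Rel g σ → ∀ j, row R (σ j) = Matrix.vecMul (row R j)
      ((rho g⁻¹ : GL (Fin 248) (ZMod 3)) : Matrix (Fin 248) (Fin 248) (ZMod 3)) := by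
    intro σ hσ j
    rw [← hσ j, Matrix.vecMul_vecMul, ← Units.val_mul, ← map_mul, mul_inv_cancel, map_one, Units.val_one,
      Matrix.vecMul_one]
  exact Equiv.ext fun j => row_inj' _ _ ((key h j).trans (key h' j).symm)

/-- the elements permuting the 27 rows -/
def NN : Subgroup Spor.Th where
  carrier := {g | ∃ π, Rel g π}
  mul_mem' := by rintro g h ⟨π, hπ⟩ ⟨π', hπ'⟩; exact ⟨_, hπ.mul hπ'⟩
  one_mem' := ⟨1, Rel.one⟩
  inv_mem' := by rintro g ⟨π, hπ⟩; exact ⟨_, hπ.inv⟩

/-- the permutation of an element -/
noncomputable def ff : NN →* Equiv.Perm (Fin 27) :=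
  MonoidHom.mk' (fun g => Classical.choose g.2) fun g h =>
    (Classical.choose_spec (g * h).2).unique ((Classical.choose_spec g.2).mul (Classical.choose_spec h.2))

theorem ff_eq {g : NN} {π : Equiv.Perm (Fin 27)} (h : Rel g π) : ff g = π := (Classical.choose_spec g.2).unique h

/-! ### the words -/

theorem exists_gl (l : Lt) : ∃ x : Spor.Th, rho x = gl l := by
  have h : evG (.g l) = gl l := rfl
  exact ⟨_, (rho_mk (.g l)).trans h⟩

theorem exists_glW (w : List Lt) : ∃ x : Spor.Th, rho x = glW w := by
  induction w with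
  | nil => exact ⟨1, map_one _⟩
  | cons l w ih =>
    obtain ⟨x, hx⟩ := exists_gl l
    obtain ⟨y, hy⟩ := ih
    exact ⟨x * y, by rw [map_mul, hx, hy]; rfl⟩

theorem exists_rel {w : List Lt} {l : List ℕ} (hg : _root_.Cfsg.Agent.Th.OrbitChain.Good R (w, l)) (hl : l.length = 27) (p : Equiv.Perm (Fin 27))
    (hp : ∀ j : Fin 27, l.getD (p j) 0 = j) : ∃ x : NN, ff x = p := by
  obtain ⟨x, hx⟩ := exists_glW w
  have h : Rel x p := by
    intro j
    have h1 := hg (p j) (by rw [show ((w, l) : List Lt × List ℕ).2 = l from rfl, hl]; exact (p j).2)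
    rw [hx, h1]
    show row R (l.getD (p j) 0) = row R j
    rw [hp]
  exact ⟨⟨x, p, h⟩, ff_eq h⟩

theorem exA : ∃ x : NN, ff x = pA := exists_rel gA rfl pA (by decide +kernel)
theorem exB : ∃ x : NN, ff x = pB := exists_rel gB rfl pB (by decide +kernel)
theorem exC : ∃ x : NN, ff x = pC := exists_rel gC rfl pC (by decide +kernel)

/-! ### the tree group -/

def d1 (x : Fin 27) : ZMod 3 := ((x : ℕ) / 9 : ℕ)
def d2 (x : Fin 27) : ZMod 3 := ((x : ℕ) / 3 : ℕ)
def d3 (x : Fin 27) : ZMod 3 := ((x : ℕ) : ℕ)

theorem digits : ∀ x y : Fin 27, d1 x = d1 y → d2 x = d2 y → d3 x = d3 y → x = y := by decide +kernel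

/-- the permutations translating the digits -/
structure Tr (σ : Equiv.Perm (Fin 27)) : Prop where
  a : ∀ x y, d1 (σ x) - d1 x = d1 (σ y) - d1 y
  b : ∀ x y, d1 x = d1 y → d2 (σ x) - d2 x = d2 (σ y) - d2 y
  c : ∀ x y, d1 x = d1 y → d2 x = d2 y → d3 (σ x) - d3 x = d3 (σ y) - d3 y

theorem Tr.a' {σ : Equiv.Perm (Fin 27)} (h : Tr σ) {x y : Fin 27} (h1 : d1 x = d1 y) : d1 (σ x) = d1 (σ y) := by
  have := h.a x y
  rw [h1] at this
  exact sub_left_inj.1 this

theorem Tr.b' {σ : Equiv.Perm (Fin 27)} (h : Tr σ) {x y : Fin 27} (h1 : d1 x = d1 y) (h2 : d2 x = d2 y) :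
    d2 (σ x) = d2 (σ y) := by
  have := h.b x y h1
  rw [h2] at this
  exact sub_left_inj.1 this

theorem Tr.mul {σ τ : Equiv.Perm (Fin 27)} (hσ : Tr σ) (hτ : Tr τ) : Tr (σ * τ) := by
  refine ⟨fun x y => ?_, fun x y h1 => ?_, fun x y h1 h2 => ?_⟩
  · rw [Equiv.Perm.mul_apply, Equiv.Perm.mul_apply]
    linear_combination hσ.a (τ x) (τ y) + hτ.a x y
  · rw [Equiv.Perm.mul_apply, Equiv.Perm.mul_apply]
    linear_combination hσ.b (τ x) (τ y) (hτ.a' h1) + hτ.b x y h1
  · rw [Equiv.Perm.mul_apply, Equiv.Perm.mul_apply]
    linear_combination hσ.c (τ x) (τ y) (hτ.a' h1) (hτ.b' h1 h2) + hτ.c x y h1 h2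

theorem Tr.one : Tr 1 := ⟨fun _ _ => by simp, fun _ _ _ => by simp, fun _ _ _ _ => by simp⟩

theorem Tr.pow {σ : Equiv.Perm (Fin 27)} (hσ : Tr σ) (n : ℕ) : Tr (σ ^ n) := by
  induction n with
  | zero => exact Tr.one
  | succ n ih => rw [pow_succ]; exact ih.mul hσ

theorem three_mul (a : ZMod 3) : a + a + a = 0 := by revert a; decide

theorem Tr.pow_eq {σ : Equiv.Perm (Fin 27)} (hσ : Tr σ) : σ ^ 27 = 1 := by
  -- first digit
  have h1 : ∀ {σ : Equiv.Perm (Fin 27)}, Tr σ → ∀ x, d1 ((σ ^ 3) x) = d1 x := by
    intro σ h x
    have e : (σ ^ 3) x = σ (σ (σ x)) := by simp only [pow_succ, pow_zero, one_mul, Equiv.Perm.mul_apply]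
    rw [e]
    linear_combination h.a (σ (σ x)) x + h.a (σ x) x + three_mul (d1 (σ x) - d1 x)
  have h2 : ∀ {σ : Equiv.Perm (Fin 27)}, Tr σ → (∀ x, d1 (σ x) = d1 x) → ∀ x, d2 ((σ ^ 3) x) = d2 x := by
    intro σ h h1 x
    have e : (σ ^ 3) x = σ (σ (σ x)) := by simp only [pow_succ, pow_zero, one_mul, Equiv.Perm.mul_apply]
    rw [e]
    linear_combination h.b (σ (σ x)) x (by rw [h1, h1]) + h.b (σ x) x (h1 x) + three_mul (d2 (σ x) - d2 x)
  have h3 : ∀ {σ : Equiv.Perm (Fin 27)}, Tr σ → (∀ x, d1 (σ x) = d1 x) → (∀ x, d2 (σ x) = d2 x) →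
      ∀ x, d3 ((σ ^ 3) x) = d3 x := by
    intro σ h h1 h2 x
    have e : (σ ^ 3) x = σ (σ (σ x)) := by simp only [pow_succ, pow_zero, one_mul, Equiv.Perm.mul_apply]
    rw [e]
    linear_combination h.c (σ (σ x)) x (by rw [h1, h1]) (by rw [h2, h2]) + h.c (σ x) x (h1 x) (h2 x) +
      three_mul (d3 (σ x) - d3 x)
  have k1 := h1 hσ
  have k2 := h2 (hσ.pow 3) k1
  have k1' : ∀ x, d1 (((σ ^ 3) ^ 3) x) = d1 x := h1 (hσ.pow 3)
  have k3 := h3 ((hσ.pow 3).pow 3) k1' k2
  have k1'' : ∀ x, d1 ((((σ ^ 3) ^ 3) ^ 3) x) = d1 x := h1 ((hσ.pow 3).pow 3)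
  have k2'' : ∀ x, d2 ((((σ ^ 3) ^ 3) ^ 3) x) = d2 x := h2 ((hσ.pow 3).pow 3) k1'
  have e27 : σ ^ 27 = ((σ ^ 3) ^ 3) ^ 3 := by rw [← pow_mul, ← pow_mul]
  rw [e27]
  exact Equiv.ext fun x => digits _ _ (k1'' x) (k2'' x) (k3 x)

/-- the tree group -/
def Tree : Subgroup (Equiv.Perm (Fin 27)) where
  carrier := {σ | Tr σ}
  mul_mem' := fun h1 h2 => h1.mul h2
  one_mem' := Tr.one
  inv_mem' := by
    intro σ h
    have h1 : σ⁻¹ = σ ^ 26 := inv_eq_of_mul_eq_one_left (by rw [← pow_succ]; exact Tr.pow_eq h)
    show Tr σ⁻¹
    rw [h1]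
    exact Tr.pow h 26

theorem tree_pGroup : IsPGroup 3 Tree := by
  rintro ⟨σ, hσ⟩
  exact ⟨3, Subtype.ext (by
    rw [Subgroup.coe_pow, Subgroup.coe_one]
    exact Tr.pow_eq hσ)⟩

theorem trA : Tr pA := ⟨by decide +kernel, by decide +kernel, by decide +kernel⟩
theorem trB : Tr pB := ⟨by decide +kernel, by decide +kernel, by decide +kernel⟩
theorem trC : Tr pC := ⟨by decide +kernel, by decide +kernel, by decide +kernel⟩

open scoped commutatorElement

theorem ne_one : ⁅⁅pB, pC⁆, ⁅pA, pC⁆⁆ ≠ 1 := by decide +kernel

theorem dd_range : DD 3 ff.range := by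
  obtain ⟨a, ha⟩ := exA
  obtain ⟨b, hb⟩ := exB
  obtain ⟨c, hc⟩ := exC
  have hQ : IsPGroup 3 (Tree.comap ff.range.subtype) := tree_pGroup.comap_of_injective _ (Subgroup.subtype_injective _)
  refine DD.of_mem _ hQ (a := ⟨pB, b, hb⟩) (b := ⟨pC, c, hc⟩) (c := ⟨pA, a, ha⟩) (d := ⟨pC, c, hc⟩) trB trC trA trC ?_
  intro h
  exact ne_one ((congrArg Subtype.val h :))

/-- **the Sylow 3-subgroup of `Th` has derived length 3** -/
theorem dd_th : DD 3 Spor.Th := by
  have : Fact (Nat.Prime 3) := ⟨Nat.prime_three⟩
  have : Finite Spor.Th := Cfsg.Agent.Th.Main1700.final.1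
  exact dd_range.of_section NN ff.rangeRestrict ff.rangeRestrict_surjective

theorem row_of_dd {p : ℕ} (hp : p.Prime) {S : Type*} [Group S] (h : DD p S) : Row p S := by
  obtain ⟨Q, hQ, hne⟩ := h.exists_mem
  by_contra hrow
  apply hne
  have hcomm : ∀ x ∈ {g | ∃ g₁ ∈ Q, ∃ g₂ ∈ Q, ⁅g₁, g₂⁆ = g}, ∀ y ∈ {g | ∃ g₁ ∈ Q, ∃ g₂ ∈ Q, ⁅g₁, g₂⁆ = g}, x * y = y * x := by
    rintro _ ⟨x, hx, y, hy, rfl⟩ _ ⟨z, hz, t, ht, rfl⟩
    by_contra hc
    exact hrow (row_of_derived_mem hp Q hQ hx hy hz ht hc)
  have h1 := Subgroup.isMulCommutative_closure (fun x hx y hy => hcomm x hx y hy)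
  intro x hx y hy
  have h2 := h1.is_comm.comm (⟨x, hx⟩ : Subgroup.closure {g | ∃ g₁ ∈ Q, ∃ g₂ ∈ Q, ⁅g₁, g₂⁆ = g}) ⟨y, hy⟩
  exact congrArg Subtype.val h2

/-- **the row `(Th, 3)`** -/
theorem row_th {S : Type} [Group S] (h : Spor.IsoTh S) : Row 3 S := by
  obtain ⟨e⟩ := h
  exact row_of_dd Nat.prime_three (dd_th.of_equiv e.symm)

end Cfsg.Agent.H31.HT.ThThree
end

-- part: H155/HT/Row
section
/-!
# S4933: a row from one character of a model, trivial outer automorphism group (helper155)
-/

set_option autoImplicit false

namespace Cfsg.Agent.H155.HT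

open Cfsg Subgroup Cfsg.Agent.H316.HT

universe u v

/-- if `Out S = 1` then `N ≅ S` normal in `G` with `C_G(N) = 1` is all of `G` -/
theorem eq_top_of_out_one {S : Type v} [Group S] (hout : Nat.card (Out S) = 1) {G : Type u} [Group G]
    (N : Subgroup G) [N.Normal] (e : N ≃* S) (hC : Subgroup.centralizer (N : Set G) = ⊥) : N = ⊤ := by
  have h1 : Nat.card (Out N) = 1 := by rw [H55.OutGen.card_out_congr e, hout]
  have h2 : Subsingleton (Out N) := (Nat.card_eq_one_iff_unique.1 h1).1
  rw [eq_top_iff]
  intro g _
  have h3 : (QuotientGroup.mk (MulAut.conjNormal g : MulAut N) : Out N) = QuotientGroup.mk 1 :=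
    Subsingleton.elim _ _
  rw [eq_comm, QuotientGroup.eq, inv_one, one_mul] at h3
  obtain ⟨n, hn⟩ := h3
  have h4 : (n : G)⁻¹ * g ∈ Subgroup.centralizer (N : Set G) := by
    rw [Subgroup.mem_centralizer_iff]
    intro x hx
    have h5 := congrArg (fun α : MulAut N => ((α ⟨x, hx⟩ : N) : G)) hn
    have h6 : (n : G) * x * (n : G)⁻¹ = g * x * g⁻¹ := by
      simpa only [_root_.MulAut.conj_apply, _root_.Subgroup.coe_mul, _root_.InvMemClass.coe_inv, _root_.MulAut.conjNormal_apply] using h5
    have h7 : g * x = (n : G) * x * (n : G)⁻¹ * g := by rw [h6]; group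
    rw [mul_assoc, h7]
    group
  rw [hC, Subgroup.mem_bot] at h4
  have h5 : g = n := by
    have := congrArg (fun y => (n : G) * y) h4
    simpa using this
  rw [h5]
  exact n.2

/-- a nonlinear irreducible character is not constant -/
theorem exists_ne {H : Type u} [Group H] [Finite H] {χ : H → ℂ} (h : IsIrrCharacter H χ) (hd : charDegree χ ≠ 1) :
    ∃ n, χ n ≠ χ 1 := by
  by_contra hcon
  push Not at hcon
  have := Fintype.ofFinite H
  have h1 := Cfsg.Agent.Characters.Core.classInner_irr_self h
  have h2 := Cfsg.Agent.Blocks.Basic.irr_one_eq_charDegree h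
  have h3 : classInner χ χ = (charDegree χ : ℂ) * (charDegree χ : ℂ) := by
    unfold classInner
    have h4 : ∀ g, χ g = (charDegree χ : ℂ) := fun g => (hcon g).trans h2
    simp only [h4, Finset.sum_const, Finset.card_univ, nsmul_eq_mul, map_natCast]
    have h5 : (Nat.card H : ℂ) ≠ 0 := by
      exact_mod_cast Nat.card_pos.ne'
    rw [← Nat.card_eq_fintype_card, inv_mul_cancel_left₀ h5]
  rw [h1] at h3
  have h6 : charDegree χ * charDegree χ = 1 := by exact_mod_cast h3.symm
  exact hd (Nat.eq_one_of_mul_eq_one_left h6)

/-- **The row from one character of a model `H`** (`Out S = 1`). -/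
theorem row_of_model {p : ℕ} {S : Type v} [Group S] (ho : Nat.card (Out S) = 1) {H : Type}
    [Group H] [Finite H] (e : S ≃* H) {χ : IrrCharacter H} (hB : χ ∈ Cfsg.Agent.H317.PQ.B0 p H)
    (h0 : 0 < vd p (χ : H → ℂ))
    (hle : ∀ (A : Type) [Group A] [Finite A], (A ≃* H) → ∀ (P : Sylow p A) (a : ℕ), 0 < a → CD p a (P : Subgroup A) →
      vd p (χ : H → ℂ) ≤ a) : Row p S := by
  intro A _ _ N _ hN hC M hM P a ha hP
  obtain ⟨e1⟩ := hN
  have hT : N = ⊤ := eq_top_of_out_one ho N e1 hC
  have : M.IsPrime := hM.2.1.isPrime
  let f : A ≃* H := ((Subgroup.topEquiv.symm.trans (MulEquiv.subgroupCongr hT.symm)).trans e1).trans e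
  have hd : charDegree ((χ : H → ℂ) ∘ f) = charDegree (χ : H → ℂ) := by
    unfold charDegree
    rw [Function.comp_apply, map_one]
  refine ⟨⟨(χ : H → ℂ) ∘ f, _⟩, Cfsg.Agent.H133.PB.mem_principalBlock_comp f.toMonoidHom f.surjective (hB M hM), ?_,
    ?_, ?_⟩
  · have h1 : charDegree (χ : H → ℂ) ≠ 1 := by
      intro h1
      unfold vd at h0
      rw [h1] at h0
      simp at h0
    obtain ⟨n, hn⟩ := exists_ne χ.2 h1
    refine ⟨f.symm n, by rw [hT]; exact mem_top _, ?_⟩
    show (χ : H → ℂ) (f (f.symm n)) ≠ (χ : H → ℂ) (f 1)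
    rw [f.apply_symm_apply, map_one]
    exact hn
  · show 0 < (charDegree ((χ : H → ℂ) ∘ f)).factorization p
    rw [hd]
    exact h0
  · show (charDegree ((χ : H → ℂ) ∘ f)).factorization p ≤ a
    rw [hd]
    exact hle A f P a ha hP

/-- **The row from one character of height one.** -/
theorem row_of_one {p : ℕ} {S : Type v} [Group S] (ho : Nat.card (Out S) = 1) {H : Type}
    [Group H] [Finite H] (e : S ≃* H) {d : ℕ}
    (h : ∃ χ : IrrCharacter H, charDegree (χ : H → ℂ) = d ∧ χ ∈ Cfsg.Agent.H317.PQ.B0 p H)
    (hd : d.factorization p = 1) : Row p S := by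
  obtain ⟨χ, h1, h2⟩ := h
  have hv : vd p (χ : H → ℂ) = 1 := by
    unfold vd
    rw [h1, hd]
  refine row_of_model ho e h2 (by omega) fun A _ _ _ P a ha _ => ?_
  omega

end Cfsg.Agent.H155.HT
end

-- part: H155/HT/MRow
section
/-!
# S4933, the Monster, `p = 2, 5, 7` (helper155)

The characters of degree `842609326`, `49609712911192813665`, `18538750076` are in the principal block and have height `1`.
-/

set_option autoImplicit false
set_option maxRecDepth 100000

namespace Cfsg.Agent.H155.HT.Mon

open Cfsg Subgroup Cfsg.Agent.H316.HT Cfsg.Agent.MonsterX.InstData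

universe v

theorem fac {p d m : ℕ} (hp : p.Prime) (h : d = p ^ 1 * m) (hm : ¬ p ∣ m) : d.factorization p = 1 := by
  have h0 : m ≠ 0 := by
    rintro rfl
    exact hm (dvd_zero _)
  rw [h, Nat.factorization_mul (pow_ne_zero _ hp.ne_zero) h0, Finsupp.add_apply, hp.factorization_pow,
    Finsupp.single_eq_same, Nat.factorization_eq_zero_of_not_dvd hm]

theorem out_one {S : Type v} [Group S] (h : Spor.IsoM S) : Nat.card (Out S) = 1 :=
  h.elim fun e => (H55.OutGen.card_out_congr e).trans S2085.result

/-- **(M, 2)** -/
theorem row_two {S : Type v} [Group S] (h : Spor.IsoM S) : Row 2 S := by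
  obtain ⟨e1⟩ := id h
  obtain ⟨e2⟩ := MonsterP.Equiv.equiv
  exact row_of_one (out_one h) (e1.trans e2) H101.PQ.MHecke.mem_2_842609326
    (fac (m := 421304663) (by norm_num) (by norm_num) (by norm_num))

/-- **(M, 5)** -/
theorem row_five {S : Type v} [Group S] (h : Spor.IsoM S) : Row 5 S := by
  obtain ⟨e1⟩ := id h
  obtain ⟨e2⟩ := MonsterP.Equiv.equiv
  exact row_of_one (out_one h) (e1.trans e2) H101.PQ.MHecke.mem_5_49609712911192813665
    (fac (m := 9921942582238562733) (by norm_num) (by norm_num) (by norm_num))

/-- **(M, 7)** -/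
theorem row_seven {S : Type v} [Group S] (h : Spor.IsoM S) : Row 7 S := by
  obtain ⟨e1⟩ := id h
  obtain ⟨e2⟩ := MonsterP.Equiv.equiv
  exact row_of_one (out_one h) (e1.trans e2) H101.PQ.MHecke.mem_7_18538750076
    (fac (m := 2648392868) (by norm_num) (by norm_num) (by norm_num))

end Cfsg.Agent.H155.HT.Mon
end

private theorem dce_4f9abfedb6fd : _root_.True := by
  try have : _root_.True := by simp only [_root_.Cfsg.Agent.H118.HT.J3.evs.eq_1]
  exact _root_.True.intro
end

-- part: H243/HT/MTwelveTwo_mg
section
set_option linter.all false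
open scoped Cfsg.Agent.FastGrp

-- part: H243/HT/MTwelveTwo
section
/-!
# S4933: the row `M₁₂`, `p = 2` (helper243)
-/

set_option autoImplicit false
set_option maxRecDepth 100000

namespace Cfsg.Agent.H243.HT

open Cfsg Subgroup Cfsg.Agent.H316.HT Cfsg.Agent.MTwelveType.SylowModel
open scoped commutatorElement

/-- a row passes to isomorphic groups -/
theorem row_congr {p : ℕ} {S T : Type*} [Group S] [Group T] (e : S ≃* T) (h : Row p T) : Row p S := by
  intro A _ _ N _ ⟨f⟩ hc M hM P a ha hcd
  exact h A N ⟨f.trans e⟩ hc M hM P a ha hcd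

theorem ne_M12 {x y : Spor.M12} (h : ¬ ∀ p : GolayPt, x.1 p = y.1 p) : x ≠ y := fun e => h fun p => by rw [e]

theorem mA : A ∈ hom.range := ⟨⟨1, 0, false, false⟩, ext_M12 (by decide +kernel)⟩
theorem mB : B ∈ hom.range := ⟨⟨0, 1, false, false⟩, ext_M12 (by decide +kernel)⟩
theorem mC : C ∈ hom.range := ⟨⟨0, 0, true, false⟩, ext_M12 (by decide +kernel)⟩
theorem mD : D ∈ hom.range := ⟨⟨0, 0, false, true⟩, ext_M12 (by decide +kernel)⟩

theorem class_three : ⁅⁅A, D⁆, C⁆ ≠ 1 := ne_M12 (by decide +kernel)

theorem ne1 : (A * B) * C ≠ C * (A * B) := ne_M12 (by decide +kernel)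
theorem ne2 : D * A ^ 2 ≠ A ^ 2 * D := ne_M12 (by decide +kernel)
theorem c1 : (A * B) * D = D * (A * B) := ext_M12 (by decide +kernel)
theorem c2 : (A * B) * A ^ 2 = A ^ 2 * (A * B) := ext_M12 (by decide +kernel)
theorem c4 : C * A ^ 2 = A ^ 2 * C := ext_M12 (by decide +kernel)

/-- **`M₁₂`, `p = 2`** -/
theorem row2_m12 (hIP : H681.IP.IPTwo) {S : Type} [Group S] (h : Spor.IsoM12 S) : Row 2 S := by
  obtain ⟨e⟩ := h
  refine row_congr e ?_
  have hX : IsPGroup 2 hom.range := IsPGroup.of_card (n := 6) (by rw [card_range_hom]; norm_num)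
  exact H681.IP.row_two hIP hom.range hX mA mD mC class_three hom.range hX (mul_mem mA mB) mC mD (pow_mem mA 2)
    ne1 ne2 c1 c2 relCD c4

end Cfsg.Agent.H243.HT
end

-- part: H174/HT/CoThree
section
/-!
# S4933, sporadic rows: `Co3`, `p = 3` (helper174)

The character of degree `5544 = 2^3 3^2 7 11` of `B0` and a Sylow 3-subgroup with a degree at least 9 (it contains two commuting
nonabelian subgroups, since `McL` does).
-/

set_option autoImplicit false
set_option maxRecDepth 100000

namespace Cfsg.Agent.H174.HT

universe u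

open Subgroup Cfsg Cfsg.Agent.H468.HT Cfsg.Agent.H709.PB

namespace Co3

open Equiv Cfsg.Agent.H123.Cls Cfsg.Agent.H763.Cls Cfsg.Agent.H763.Co3.Dat Cfsg.Agent.Lib.BitNet
open Cfsg.Agent.H763.Co3.Model (N A2 A_conj A_le card_N N_le_A)
open Cfsg.Agent.H763.Co3.Fin (D_ok cov)

/-- the centralizers in the representatives -/
theorem card_cent_conj {b : Perm (Fin 552)} (hb : b ∈ A2) (r : Perm (Fin 552)) :
    Nat.card ↥(A2 ⊓ Subgroup.centralizer {b * r * b⁻¹}) = Nat.card ↥(A2 ⊓ Subgroup.centralizer {r}) := by
  have h1 := card_cl A2 (b * r * b⁻¹)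
  have h2 := card_cl A2 r
  have h3 : cl A2 (b * r * b⁻¹) = cl A2 r := by
    ext x
    constructor
    · rintro ⟨a, ha, rfl⟩
      exact ⟨a * b, A2.mul_mem ha hb, by group⟩
    · rintro ⟨a, ha, rfl⟩
      exact ⟨a * b⁻¹, A2.mul_mem ha (A2.inv_mem hb), by group⟩
  rw [h3] at h1
  have h4 : 0 < (cl A2 r).ncard := by
    rw [Set.ncard_pos (Set.toFinite _)]
    exact ⟨r, 1, A2.one_mem, by group⟩
  exact Nat.eq_of_mul_eq_mul_right h4 (h1.symm.trans h2)

theorem card_cent_dvd (y : N) : Nat.card (centralizer ({y} : Set N)) ∣
    Nat.card ↥(A2 ⊓ Subgroup.centralizer {(y : Perm (Fin 552))}) := by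
  have h1 : Nat.card ((centralizer ({y} : Set N)).map N.subtype) = Nat.card (centralizer ({y} : Set N)) :=
    Nat.card_congr ((centralizer ({y} : Set N)).equivMapOfInjective N.subtype N.subtype_injective).toEquiv.symm
  rw [← h1]
  refine card_dvd_of_le ?_
  rintro _ ⟨x, hx, rfl⟩
  refine ⟨N_le_A x.2, ?_⟩
  have h2 := mem_centralizer_singleton_iff.1 hx
  exact mem_centralizer_singleton_iff.2 (congrArg Subtype.val h2)

/-- centralizers divisible by `3 ^ 5` -/
theorem pow_three (y : N) (hd : 3 ^ 5 ∣ Nat.card (centralizer ({y} : Set N))) : y ^ 3 = 1 := by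
  obtain ⟨x, hx, r, hr, hrp, b, hb, e⟩ := cov y y.2
  have h1 := hd.trans (card_cent_dvd y)
  rw [e, card_cent_conj hb, clsN.1 x hx r hrp] at h1
  have h2 := (D_cent x hx).resolve_right fun h => h h1
  obtain ⟨c, cs, e2, c1, c2, c3⟩ := (D_ok x hx).sg
  have h3 : Jx row key r = x.2.2 := by
    rw [e2]
    exact Jx_of (K := 10) (by norm_num) c1 c2 c3 hrp
  rw [← h3] at h2
  have h4 : pwc row r (false, 3) = 552 := h2
  have h5 : ∀ p : Fin 552, (r ^ 3) p = p := by
    have h6 : {p : Fin 552 | (r ^ 3) p = p} = Set.univ := by
      refine Set.eq_of_subset_of_ncard_le (Set.subset_univ _) ?_ (Set.toFinite _)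
      rw [Set.ncard_univ, Nat.card_eq_fintype_card, Fintype.card_fin, ← Nat.card_coe_set_eq]
      exact h4.ge
    intro p
    have h7 : p ∈ {p : Fin 552 | (r ^ 3) p = p} := by
      rw [h6]
      exact Set.mem_univ p
    exact h7
  have h7 : r ^ 3 = 1 := Equiv.ext h5
  apply Subtype.ext
  rw [SubmonoidClass.coe_pow, e, conj_pow, h7, mul_one, mul_inv_cancel]
  rfl

/-- blocks -/
theorem nb_three : NB 3 3 N := by
  have : Fact (Nat.Prime 3) := ⟨Nat.prime_three⟩
  have := finN
  refine NB.of_orders (q := 3) (a := 7) (by rw [card_N]; norm_num) fun y hy h3 hd => ?_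
  rw [show 7 + 1 - 3 = 5 by norm_num] at hd
  have h1 := orderOf_dvd_of_pow_eq_one (pow_three y hd)
  exact h3 ((Nat.prime_dvd_prime_iff_eq hy Nat.prime_three).1 h1)

/-- the character of degree 5544 of the principal block -/
theorem posLe : PosLe 3 2 N := by
  have := finN
  exact PosLe.of_nb Nat.prime_three nb_three exists_5544 (by norm_num) (by norm_num)

end Co3

open Cfsg.Agent.H681.IP Cfsg.Agent.H916.HT.McLCo2 in
/-- the Sylow 3-subgroup has a degree at least 9 -/
theorem two_le_of_co3 {S : Type u} [Group S] [Finite S] (h : Spor.IsoCo3 S) (P' : Sylow 3 S) (a : ℕ) (ha : 0 < a)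
    (hcd : CD 3 a ↥P') : 2 ≤ a := by
  by_contra hcon
  have ha1 : a = 1 := by omega
  subst ha1
  have : Fact (Nat.Prime 3) := ⟨Nat.prime_three⟩
  obtain ⟨e⟩ := h
  obtain ⟨f, hf⟩ := emb_mcl
  have hle : Spor.McL ≤ Spor.Co3 := inf_le_left
  have hX : IsPGroup 3 McLType.ThreeElts.P := IsPGroup.of_card (n := 6) (by rw [McLType.ThreeElts.card_P]; norm_num)
  obtain ⟨i, hi⟩ := exists_hom P' (e.symm.toMonoidHom.comp ((inclusion hle).comp f))
    (e.symm.injective.comp ((inclusion_injective hle).comp hf)) hX
  have hne : ∀ {x y : McLType.ThreeElts.P}, x * y ≠ y * x → i x * i y ≠ i y * i x := by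
    intro x y hxy h1
    rw [← map_mul, ← map_mul] at h1
    exact hxy (hi h1)
  refine TD.false_of_pairs (p := 3) Nat.prime_three P'.isPGroup' hcd.1
    (x₁ := i (wd [0] (by decide))) (y₁ := i (wd [2] (by decide))) (x₂ := i (wd [5] (by decide)))
    (y₂ := i (wd [1, 2] (by decide))) (hne (ncm _ _ (by decide +kernel))) (hne (ncm _ _ (by decide +kernel)))
    ((cm _ _ (by decide +kernel)).map i) ((cm _ _ (by decide +kernel)).map i)
    ((cm _ _ (by decide +kernel)).map i) ((cm _ _ (by decide +kernel)).map i)

/-- **S4933, `Co3`, `p = 3`.** -/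
theorem good_co3_three {S : Type u} [Group S] [Finite S] (h : Spor.IsoCo3 S) : Good 3 S := by
  have h1 : PosLe 3 2 S := by
    obtain ⟨e⟩ := h
    exact PosLe.of_equiv (e.trans Cfsg.Agent.H763.Co3.Fin.eN).symm Co3.posLe
  exact h1.good (two_le_of_co3 h)

end Cfsg.Agent.H174.HT
end

-- part: H764/HT/Suz
section
/-!
# S4933: `Suz`, `p = 3` (helper764)

The character of degree `780` (`v₃ = 1`) lies in the principal 3-block: the characters outside it have degree divisible
by `9` (orders of the centralizers of the elements of prime order).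
-/

set_option autoImplicit false

namespace Cfsg.Agent.H764.HT

open Cfsg Cfsg.Agent.H468.HT Cfsg.Agent.H710.EP

universe u

theorem nb_suz_3 : H709.PB.NB 3 2 Spor.Suz := by
  have hfin := H212.SuzFive.fin
  have h3 : Fact (Nat.Prime 3) := ⟨Nat.prime_three⟩
  refine H709.PB.NB.of_orders (a := 7) (by rw [card_suz]; norm_num) fun y hy hy3 => ?_
  rcases prime_cases hy (orderOf_dvd_natCard y) with h | h | h | h | h | h
  · rcases cent_two h with h1 | h1 <;> rw [h1] <;> norm_num
  · exact absurd h hy3
  · exact fun h1 => H171.Odd.SuzFive.suz_five ⟨MulEquiv.refl _⟩ h ((pow_dvd_pow 3 (by norm_num)).trans h1)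
  · rw [cent_seven h]; norm_num
  · rw [cent_eleven h]; norm_num
  · rw [H153.Zeros.card_cent_suz h]; norm_num

theorem pos_suz_3 {S : Type u} [Group S] [Finite S] (h : Spor.IsoSuz S) : Pos 3 S := by
  obtain ⟨e⟩ := h
  have hfin := H212.SuzFive.fin
  exact (Pos.of_nb (G := Spor.Suz) (d := 780) Nat.prime_three nb_suz_3 H289.Eight.SuzDeg.deg_780
    (by norm_num) (by norm_num)).of_equiv e.symm

/-- **`Suz`, `p = 3`** -/
theorem good_suz_3 {S : Type u} [Group S] [Finite S] (h : Spor.IsoSuz S) : Good 3 S := (pos_suz_3 h).good

end Cfsg.Agent.H764.HT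
end

-- part: H266/HT/LyFive
section
/-!
# S4933, box (Ly, 5) (helper266)

The character of degree `4226695 = 5·11·31·37·67` of the Lyons group lies in the principal 5-block (`NB 5 5`).
-/

set_option autoImplicit false

open Cfsg Cfsg.Agent

namespace Cfsg.Agent.H266.HT.LyFive

open Cfsg.Agent.H317.PQ Cfsg.Agent.H894.PQ.Ly

universe u

theorem pos_ly : Cfsg.Agent.H468.HT.Pos 5 Spor.Ly := by
  have := fin_ly
  obtain ⟨-, -, -, d, -, -, -, hd, -⟩ := facts
  have d5 : d ∈ B0 5 Spor.Ly := mem_nb Nat.prime_five nb_five' d (by rw [hd]; norm_num)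
  exact Cfsg.Agent.H468.HT.Pos.of_mem hd d5 (by norm_num) (by norm_num)

/-- **Box (Ly, 5).** -/
theorem pos_Ly_5 {S : Type u} [Group S] (h : Spor.IsoLy S) : Cfsg.Agent.H468.HT.Pos 5 S := by
  obtain ⟨e⟩ := h
  have := fin_ly
  exact pos_ly.of_equiv e.symm

theorem good_Ly_5 {S : Type u} [Group S] [Finite S] (h : Spor.IsoLy S) : Cfsg.Agent.H468.HT.Good 5 S :=
  (pos_Ly_5 h).good

end Cfsg.Agent.H266.HT.LyFive
end

-- part: H474/HT/HNFive
section
/-!
# S4933, box `s.HN.5` (helper474)

* `not_dvd_five` : `5 ^ 5` does not divide `|C(y)|`, `y` of prime order different from 5;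
* `nb_five`      : the characters outside the principal 5-block have degree divisible by 25;
* `good_hn_5`    : `Good 5 S` for `S ≃* HN`: the character of degree `8910 = 2 · 3 ^ 4 · 5 · 11`.
-/

set_option autoImplicit false

namespace Cfsg.Agent.H474.HT

open Subgroup Cfsg Cfsg.Agent.H709.PB
open Cfsg.Agent.CpAutHN Cfsg.Agent.CpAutHN.Alt Cfsg.Agent.CpAutHN.Tr Cfsg.Agent.CpAutHN.Pairs
open Cfsg.Agent.H651.HNF (card7 card11 card19)

universe u

theorem hn_card_X1_dvd : Nat.card (centralizer ({X1} : Set Spor.HN)) ∣ 1088640 := by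
  have h1 : centralizer ({X1} : Set Spor.HN) ≤ ((centralizer ({(⟨x1, x1_mem⟩ : A12)} : Set A12))).map Φ := by
    intro y hy
    obtain ⟨f, rfl⟩ := Cfsg.Agent.H187.Ore.HNX1.exists_perm (mem_centralizer_singleton_iff.1 hy)
    refine ⟨f, mem_centralizer_singleton_iff.2 ?_, rfl⟩
    exact Cfsg.Agent.H187.Ore.HN15.comm_of_Φ (mem_centralizer_singleton_iff.1 hy)
  refine (Subgroup.card_dvd_of_le h1).trans ?_
  rw [← Nat.card_congr ((centralizer ({(⟨x1, x1_mem⟩ : A12)} : Set A12)).equivMapOfInjective Φ Φ_inj).toEquiv]
  have h2 : (centralizer ({(⟨x1, x1_mem⟩ : A12)} : Set A12)).map (alternatingGroup (Fin 12)).subtype ≤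
      centralizer ({x1} : Set (Equiv.Perm (Fin 12))) := by
    rintro _ ⟨f, hf, rfl⟩
    exact mem_centralizer_singleton_iff.2 (congrArg Subtype.val (mem_centralizer_singleton_iff.1 hf))
  rw [Nat.card_congr ((centralizer ({(⟨x1, x1_mem⟩ : A12)} : Set A12)).equivMapOfInjective
    (alternatingGroup (Fin 12)).subtype (Subgroup.subtype_injective _)).toEquiv]
  refine (Subgroup.card_dvd_of_le h2).trans ?_
  have hc : x1.cycleType = {3} := by decide +kernel
  rw [Equiv.Perm.nat_card_centralizer, hc]
  decide +kernel

theorem hn_three {x y : Spor.HN} (hx : orderOf x = 3) (hy : orderOf y = 5) (hc : x * y = y * x) :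
    ¬ 5 ^ 5 ∣ Nat.card (centralizer ({x} : Set Spor.HN)) := by
  intro h
  rcases Cfsg.Agent.H187.Ore.HN15.types hx hy hc with ⟨c, h0⟩ | ⟨c, h0⟩
  · rw [← H502.TO.card_cent_conj c x, h0] at h
    have h2 := h.trans hn_card_X1_dvd
    norm_num at h2
  · rw [← H502.TO.card_cent_conj c x, h0] at h
    have h1 : Nat.card (centralizer ({X3} : Set Spor.HN)) =
      Nat.card Cfsg.Agent.H478.HNThree.Ob * 360 := Cfsg.Agent.H991.SN.HN.card_MM
    rw [h1] at h
    have h2 := h.trans (Nat.mul_dvd_mul_right Cfsg.Agent.H187.Ore.HN15.card_Ob 360)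
    norm_num at h2

theorem hn_not_dvd_five (y : Spor.HN) (hy : (orderOf y).Prime) (h5 : orderOf y ≠ 5) :
    ¬ 5 ^ (6 + 1 - 2) ∣ Nat.card (centralizer ({y} : Set Spor.HN)) := by
  have := Cfsg.Agent.KFacts.HN.finite_HN
  have hf5 : Fact (Nat.Prime 5) := ⟨Nat.prime_five⟩
  intro hd
  norm_num at hd
  have hc : orderOf y ∈ [2, 3, 5, 7, 11, 19] := by
    have h1 : orderOf y ∣ Nat.card Spor.HN := orderOf_dvd_natCard y
    rw [H394.PBHN.card_hn, show (273030912000000 : ℕ) = 2 ^ 14 * 3 ^ 6 * 5 ^ 6 * 7 * 11 * 19 by norm_num] at h1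
    exact H394.PBTools.mem_of_dvd hy [2, 3, 5, 7, 11, 19] [14, 6, 6, 1, 1, 1] (by decide) (by simpa [mul_assoc] using h1)
  simp only [List.mem_cons, List.not_mem_nil, or_false] at hc
  rcases hc with h | h | h | h | h | h
  · rcases SigZeroHN.card_centralizer_cases h with ⟨-, h2⟩ | ⟨-, h2⟩ <;> rw [h2] at hd <;> norm_num at hd
  · obtain ⟨z, hz⟩ := exists_prime_orderOf_dvd_card' (G := centralizer ({y} : Set Spor.HN)) 5
      ((by norm_num : 5 ∣ 3125).trans hd)
    refine hn_three h (y := (z : Spor.HN)) (by rw [← hz, Subgroup.orderOf_coe]) ?_ (by norm_num; exact hd)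
    exact (mem_centralizer_singleton_iff.1 z.2).symm
  · exact h5 h
  · rw [card7 y h] at hd
    norm_num at hd
  · rw [card11 y h] at hd
    norm_num at hd
  · rw [card19 y h] at hd
    norm_num at hd

theorem hn_nb_five : NB 5 2 Spor.HN := by
  have := Cfsg.Agent.KFacts.HN.finite_HN
  have hf5 : Fact (Nat.Prime 5) := ⟨Nat.prime_five⟩
  exact NB.of_orders (a := 6) (by rw [H394.PBHN.card_hn]; norm_num) hn_not_dvd_five

theorem hn_pos_five : H468.HT.Pos 5 Spor.HN := by
  have := Cfsg.Agent.KFacts.HN.finite_HN
  obtain ⟨χ, hχ⟩ := H492.IMHN.exists_8910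
  have dχ : charDegree (χ : Spor.HN → ℂ) = 8910 := H670.PSing.charDegree_eq_of hχ
  exact H468.HT.Pos.of_nb Nat.prime_five hn_nb_five ⟨χ, dχ⟩ (by norm_num) (by norm_num)

theorem good_hn_5 {S : Type u} [Group S] [Finite S] (h : Spor.IsoHN S) : H468.HT.Good 5 S := by
  obtain ⟨e⟩ := h
  exact (hn_pos_five.of_equiv e.symm).good

end Cfsg.Agent.H474.HT
end

-- part: H670/Hg/ThFive
section
/-!
# `Th`, `p = 5`: a character of positive height in the principal block (helper670)
-/

set_option autoImplicit false

open Cfsg Subgroup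

namespace Cfsg.Agent.H670.Hg.ThFive

open Cfsg.Agent.H978.RatB Cfsg.Agent.H492.IMCTh

/-- the prime part -/
theorem exists_prime_pow {G : Type*} [Group G] [Finite G] {y : G} (hy : y ≠ 1) :
    ∃ z : G, (orderOf z).Prime ∧ (orderOf z) ∣ orderOf y ∧ centralizer ({y} : Set G) ≤ centralizer ({z} : Set G) := by
  obtain ⟨r, hr, hd⟩ := Nat.exists_prime_and_dvd (n := orderOf y) (fun h => hy (orderOf_eq_one_iff.1 h))
  obtain ⟨m, hm⟩ := hd
  have hm0 : m ≠ 0 := by
    rintro rfl
    rw [mul_zero] at hm
    exact (orderOf_pos y).ne' hm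
  refine ⟨y ^ m, ?_, ?_, ?_⟩
  · rw [orderOf_pow' y hm0, hm, Nat.gcd_eq_right (Dvd.intro_left r rfl), Nat.mul_div_cancel _ (Nat.pos_of_ne_zero hm0)]
    exact hr
  · exact orderOf_pow_dvd m
  · intro x hx
    rw [mem_centralizer_singleton_iff] at hx ⊢
    exact (Commute.pow_right (show Commute x y from hx) m)

/-- `(Th, 5)`: the character of degree `2450240` -/
theorem exists_deg {M : Ideal AlgInt} (hM : IsPModular 5 M) :
    ∃ χ : IrrCharacter Spor.Th, χ ∈ principalBlock M Spor.Th ∧ charDegree (χ : Spor.Th → ℂ) = 2450240 := by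
  have := fin_th
  have : Fact (Nat.Prime 5) := ⟨by norm_num⟩
  obtain ⟨χ, hd, -⟩ := exists_of_val Cfsg.Agent.H492.ThRat.val_2450240
  have e1 : (Nat.card Spor.Th).factorization 5 = 3 := by
    rw [card_th]
    have h1 : (90745943887872000 : ℕ) = 5 ^ 3 * (2 ^ 15 * 3 ^ 10 * 7 ^ 2 * 13 * 19 * 31) := by norm_num
    rw [h1]
    rw [Nat.factorization_mul (by norm_num) (by norm_num), Finsupp.add_apply, Nat.Prime.factorization_pow (by norm_num),
      Nat.factorization_eq_zero_of_not_dvd (n := 2 ^ 15 * 3 ^ 10 * 7 ^ 2 * 13 * 19 * 31) (by norm_num)]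
    simp
  have e2 : (2450240 : ℕ).factorization 5 = 1 := by
    have h1 : (2450240 : ℕ) = 5 ^ 1 * 490048 := by norm_num
    rw [h1, Nat.factorization_mul (by norm_num) (by norm_num), Finsupp.add_apply, Nat.Prime.factorization_pow (by norm_num),
      Nat.factorization_eq_zero_of_not_dvd (n := 490048) (by norm_num)]
    simp
  refine ⟨χ, mem_principal_of_class hM χ ?_ ?_, hd⟩
  · rw [hd, e1, e2]; norm_num
  · intro y hy hy5
    rw [hd, e1, e2]
    intro h
    obtain ⟨z, hz, hzd, hzc⟩ := exists_prime_pow hy
    have hz5 : orderOf z ≠ 5 := fun h5 => hy5 (h5 ▸ hzd)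
    have h1 : 5 ^ 2 ∣ Nat.card (centralizer ({z} : Set Spor.Th)) := h.trans (Subgroup.card_dvd_of_le hzc)
    have : Fintype (centralizer ({z} : Set Spor.Th)) := Fintype.ofFinite _
    obtain ⟨x, hx⟩ := exists_prime_orderOf_dvd_card' (G := centralizer ({z} : Set Spor.Th)) 5
      (Dvd.dvd.trans (by norm_num) h1)
    have hx' : orderOf (x : Spor.Th) = 5 := by rw [Subgroup.orderOf_coe, hx]
    have h2 : z ∈ centralizer ({(x : Spor.Th)} : Set Spor.Th) := by
      have := x.2
      rw [mem_centralizer_singleton_iff] at this ⊢
      exact this.symm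
    have h3 := Subgroup.orderOf_dvd_natCard _ h2
    rw [Cfsg.Agent.H502.TO.card_five hx'] at h3
    have h4 : orderOf z ∣ 2 ^ 3 * 3 * 5 ^ 3 := h3.trans (by norm_num)
    have h5 : orderOf z = 2 ∨ orderOf z = 3 := by
      rcases (hz.dvd_mul).1 h4 with h5 | h5
      · rcases (hz.dvd_mul).1 h5 with h6 | h6
        · exact Or.inl ((Nat.prime_dvd_prime_iff_eq hz Nat.prime_two).1 (hz.dvd_of_dvd_pow h6))
        · exact Or.inr ((Nat.prime_dvd_prime_iff_eq hz Nat.prime_three).1 h6)
      · exact (hz5 ((Nat.prime_dvd_prime_iff_eq hz Nat.prime_five).1 (hz.dvd_of_dvd_pow h5))).elim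
    rcases h5 with h5 | h5
    · rw [Cfsg.Agent.MonsterX.ThOneClass.card_centralizer h5] at h1
      norm_num at h1
    · exact Cfsg.Agent.H491.PB.Th.not_25 h5 (Dvd.dvd.trans (by norm_num) h1)

end Cfsg.Agent.H670.Hg.ThFive
end

-- part: H670/HT/Th5
section
/-!
# S4933, the sporadic row `(Th, 5)` (helper670)
-/

set_option autoImplicit false

open Cfsg

namespace Cfsg.Agent.H670.HT

open Cfsg.Agent.H317.PQ Cfsg.Agent.H468.HT

universe u

/-- `(Th, 5)`: the degree `2450240` -/
theorem pos_Th : Pos 5 Spor.Th := by
  have hf : Finite Spor.Th := Cfsg.Agent.H492.IMCTh.fin_th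
  have hp : Nat.Prime 5 := by norm_num
  have : Fact (Nat.Prime 5) := ⟨hp⟩
  obtain ⟨M, hM⟩ := Cfsg.Agent.Blocks.ExistsModular.exists_isPModular hp
  obtain ⟨χ, h1, h2⟩ := Hg.ThFive.exists_deg hM
  refine ⟨χ, ?_, ?_, ?_⟩
  · rw [B0_eq hp hM]; exact h1
  · rw [h2]; norm_num
  · rw [h2]; norm_num

theorem pos_Th_5 {S : Type u} [Group S] [Finite S] (h : Spor.IsoTh S) : Pos 5 S := by
  obtain ⟨e⟩ := h
  have hf : Finite Spor.Th := Cfsg.Agent.H492.IMCTh.fin_th
  exact Pos.of_equiv e.symm pos_Th

theorem good_Th_5 {S : Type u} [Group S] [Finite S] (h : Spor.IsoTh S) : Good 5 S := (pos_Th_5 h).good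

end Cfsg.Agent.H670.HT
end
end
end
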